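import Cfsg.Agent.Lib.Solv.FrobeniusFormula
import Cfsg.Agent.Lib.Solv.Generation
import Cfsg.Agent.Lib.Solv.UniqueSub
import Cfsg.Agent.Lib.Solv.Cores
import Cfsg.Agent.Lib.Solv.Hall
import Cfsg.Agent.Lib.Fusion.KInf
import Cfsg.Prelude.Def_Transfer

/-!
Four primes, pairwise but never triply joined: commuting elements, fixed points and rank-one
criteria used in the proof that such a group is not solvable.
-/

set_option autoImplicit false
set_option linter.style.haveILetI false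

open scoped Pointwise commutatorElement
open Cfsg

namespace Cfsg.Agent.Solv.FourPrimes

universe u

variable {G : Type u} [Group G]

/-- No three pairwise commuting elements of three distinct prime orders. -/
def NoTriple (G : Type u) [Group G] : Prop :=
  ∀ p q r : ℕ, p.Prime → q.Prime → r.Prime → p ≠ q → q ≠ r → p ≠ r →
    ∀ x y z : G, orderOf x = p → orderOf y = q → orderOf z = r →
      Commute x y → Commute x z → Commute y z → False

/-- `x` commutes with some nontrivial element of `H`. -/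
def Fix (H : Subgroup G) (x : G) : Prop := ∃ v ∈ H, v ≠ 1 ∧ Commute x v

/-- Commuting elements of order dividing `p` of `S` lie in one cyclic group. -/
def R1 (p : ℕ) (S : Subgroup G) : Prop :=
  ∀ x ∈ S, ∀ y ∈ S, x ^ p = 1 → y ^ p = 1 → y ≠ 1 → Commute x y → x ∈ Subgroup.zpowers y

/-- An elementary abelian subgroup of order `r²`. -/
structure Elem (r : ℕ) (E : Subgroup G) : Prop where
  comm : ∀ a ∈ E, ∀ b ∈ E, Commute a b
  exp : ∀ a ∈ E, a ^ r = 1
  card : Nat.card E = r ^ 2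

theorem orderOf_eq {p : ℕ} (hp : p.Prime) {x : G} (h : x ^ p = 1) (h1 : x ≠ 1) : orderOf x = p :=
  (haveI := Fact.mk hp; orderOf_eq_prime h h1)

theorem ne_one_of_orderOf {p : ℕ} (hp : p.Prime) {x : G} (h : orderOf x = p) : x ≠ 1 := fun e => by
  rw [e, orderOf_one] at h; exact hp.one_lt.ne h

theorem pow_eq_of_orderOf {p : ℕ} {x : G} (h : orderOf x = p) : x ^ p = 1 := h ▸ pow_orderOf_eq_one x

theorem commute_zpowers {x y v : G} (h : Commute x v) (hy : y ∈ Subgroup.zpowers x) : Commute y v := by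
  obtain ⟨i, rfl⟩ := Subgroup.mem_zpowers_iff.1 hy
  exact h.zpow_left i

/-- A nontrivial power of an element of prime order generates it. -/
theorem mem_zpowers_gen {p : ℕ} (hp : p.Prime) {x y : G} (hx : x ^ p = 1) (hy : y ∈ Subgroup.zpowers x)
    (hy1 : y ≠ 1) : x ∈ Subgroup.zpowers y := by
  obtain ⟨i, rfl⟩ := Subgroup.mem_zpowers_iff.1 hy
  have hne : ¬ (p : ℤ) ∣ i := by
    rintro ⟨j, rfl⟩
    exact hy1 (by rw [zpow_mul, zpow_natCast, hx, one_zpow])
  obtain ⟨a, b, hab⟩ := ((Nat.prime_iff_prime_int.1 hp).coprime_iff_not_dvd.2 hne : IsCoprime (p : ℤ) i)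
  refine Subgroup.mem_zpowers_iff.2 ⟨b, ?_⟩
  rw [← zpow_mul]
  calc x ^ (i * b) = x ^ (a * (p : ℤ) + b * i) * (x ^ ((p : ℤ) * a))⁻¹ := by
        rw [← zpow_neg, ← zpow_add]; congr 1; ring
    _ = x := by rw [hab, zpow_one, zpow_mul, zpow_natCast, hx, one_zpow, inv_one, mul_one]

variable [Finite G]

theorem Fix.exists_order {p : ℕ} [Fact p.Prime] {H : Subgroup G} (hH : IsPGroup p H) {x : G}
    (h : Fix H x) : ∃ v ∈ H, orderOf v = p ∧ Commute x v := by
  obtain ⟨v, hv, hv1, hc⟩ := h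
  obtain ⟨k, hk⟩ := IsPGroup.iff_orderOf.1 hH ⟨v, hv⟩
  rw [Subgroup.orderOf_mk] at hk
  have hk0 : k ≠ 0 := fun h0 => hv1 (orderOf_eq_one_iff.1 (by simpa [h0] using hk))
  exact ⟨v ^ (orderOf v / p), pow_mem hv _,
    orderOf_pow_orderOf_div (orderOf_pos v).ne' (hk ▸ dvd_pow_self p hk0), hc.pow_right _⟩

theorem exists_prime_order {p : ℕ} [Fact p.Prime] {H : Subgroup G} (hH : IsPGroup p H) (h : H ≠ ⊥) :
    ∃ v ∈ H, orderOf v = p := by
  obtain ⟨⟨v, hv⟩, hv1⟩ := Subgroup.ne_bot_iff_exists_ne_one.1 h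
  obtain ⟨w, hw, hwo, -⟩ := Fix.exists_order hH (x := (1 : G))
    ⟨v, hv, fun e => hv1 (Subtype.ext e), Commute.one_left v⟩
  exact ⟨w, hw, hwo⟩

omit [Finite G] in
theorem coprime_of_ne {p q : ℕ} [hp : Fact p.Prime] [hq : Fact q.Prime] (h : p ≠ q) {A : Subgroup G}
    [Finite G] (hA : IsPGroup p A) : ¬ q ∣ Nat.card A := by
  obtain ⟨k, hk⟩ := IsPGroup.iff_card.1 hA
  rw [hk]
  exact fun hd => h ((Nat.prime_dvd_prime_iff_eq hq.out hp.out).1 (hq.out.dvd_of_dvd_pow hd)).symm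

/-- Two commuting independent elements of order `r` span an `Elem`. -/
theorem elem_of_pair {r : ℕ} (hr : r.Prime) {x y : G} (hx : x ^ r = 1) (hy : y ^ r = 1) (hy1 : y ≠ 1)
    (hc : Commute x y) (hxy : x ∉ Subgroup.zpowers y) :
    Elem r (Subgroup.zpowers y ⊔ Subgroup.zpowers x) := by
  set Y := Subgroup.zpowers y
  set X := Subgroup.zpowers x
  have hx1 : x ≠ 1 := fun e => hxy (e ▸ one_mem _)
  have hYX : ∀ a ∈ Y, ∀ b ∈ X, Commute a b := fun a ha b hb =>
    commute_zpowers (commute_zpowers hc hb).symm ha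
  have hn : X ≤ Subgroup.normalizer (Y : Set G) := by
    refine le_trans ?_ (Subgroup.centralizer_le_normalizer _)
    exact fun b hb => Subgroup.mem_centralizer_iff.2 fun a ha => hYX a ha b hb
  have hmul : ∀ e ∈ Y ⊔ X, ∃ a ∈ Y, ∃ b ∈ X, a * b = e := fun e he => by
    rw [← SetLike.mem_coe, Subgroup.coe_mul_of_right_le_normalizer_left Y X hn] at he
    exact Set.mem_mul.1 he
  have hcomm : ∀ {w : G}, (∀ a ∈ Y, Commute a w) → (∀ b ∈ X, Commute b w) → ∀ e ∈ Y ⊔ X, Commute e w := by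
    intro w h1 h2 e he
    obtain ⟨a, ha, b, hb, rfl⟩ := hmul e he
    exact (h1 a ha).mul_left (h2 b hb)
  refine ⟨fun e he f hf => hcomm (fun a ha => (hcomm (fun a' ha' => ?_) (fun b hb => (hYX a ha b hb).symm)
    f hf).symm) (fun b hb => (hcomm (fun a ha => hYX a ha b hb) (fun b' hb' => ?_) f hf).symm) e he,
    fun e he => ?_, ?_⟩
  · exact commute_zpowers (commute_zpowers (Commute.refl y) ha).symm ha'
  · exact commute_zpowers (commute_zpowers (Commute.refl x) hb).symm hb'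
  · obtain ⟨a, ha, b, hb, rfl⟩ := hmul e he
    obtain ⟨i, rfl⟩ := Subgroup.mem_zpowers_iff.1 ha
    obtain ⟨j, rfl⟩ := Subgroup.mem_zpowers_iff.1 hb
    rw [(hYX _ ha _ hb).mul_pow, ← zpow_natCast, ← zpow_natCast (x ^ j), ← zpow_mul, ← zpow_mul,
      mul_comm i, mul_comm j, zpow_mul, zpow_mul, zpow_natCast, zpow_natCast, hy, hx, one_zpow,
      one_zpow, one_mul]
  · have hinf : Y ⊓ X = ⊥ := by
      rw [Subgroup.eq_bot_iff_forall]
      rintro w ⟨hwY, hwX⟩
      by_contra hw1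
      exact hxy ((Subgroup.zpowers_le.2 hwY) (mem_zpowers_gen hr hx hwX hw1))
    have h := card_sup_mul_card_inf' Y X hn
    rw [hinf, Subgroup.card_bot, mul_one, Nat.card_zpowers, Nat.card_zpowers, orderOf_eq hr hy hy1,
      orderOf_eq hr hx hx1] at h
    rw [h, sq]

omit [Finite G] in
theorem exists_elem [Finite G] {r : ℕ} (hr : r.Prime) {S : Subgroup G} (h : ¬ R1 r S) :
    ∃ E ≤ S, Elem r E := by
  simp only [R1, not_forall] at h
  obtain ⟨x, hxS, y, hyS, hx, hy, hy1, hc, hxy⟩ := h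
  exact ⟨_, sup_le (Subgroup.zpowers_le.2 hyS) (Subgroup.zpowers_le.2 hxS),
    elem_of_pair hr hx hy hy1 hc hxy⟩

namespace Elem

variable {r : ℕ} {E : Subgroup G}

theorem not_le_zpowers (hE : Elem r E) [hr : Fact r.Prime] (e : G) (he : e ∈ E) : ¬ E ≤ Subgroup.zpowers e := by
  intro h
  have h1 := Subgroup.card_le_of_le h
  rw [Nat.card_zpowers, hE.card] at h1
  have h2 : orderOf e ≤ r := Nat.le_of_dvd hr.out.pos (orderOf_dvd_of_pow_eq_one (hE.exp e he))
  have h3 : r < r ^ 2 := lt_self_pow₀ hr.out.one_lt one_lt_two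
  omega

theorem not_r1 (hE : Elem r E) [Fact r.Prime] {S : Subgroup G} (h : E ≤ S) : ¬ R1 r S := fun hR => by
  obtain ⟨y, hy, hy1⟩ : ∃ y ∈ E, y ≠ 1 := by
    by_contra hcon
    exact hE.not_le_zpowers 1 (one_mem _) fun a ha => by
      by_contra ha1
      exact hcon ⟨a, ha, fun e => ha1 (by rw [e]; exact one_mem _)⟩
  exact hE.not_le_zpowers y hy fun x hx =>
    hR x (h hx) y (h hy) (hE.exp x hx) (hE.exp y hy) hy1 (hE.comm x hx y hy)

/-- Generation by the centralisers of the nontrivial elements. -/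
theorem gen (hE : Elem r E) [hr : Fact r.Prime] {V L : Subgroup G} (hEV : E ≤ Subgroup.normalizer (V : Set G))
    (hco : ¬ r ∣ Nat.card V) (h : ∀ e ∈ E, e ≠ 1 → ∀ v ∈ V, Commute e v → v ∈ L) : V ≤ L := by
  have hA : IsMulCommutative E := ⟨⟨fun a b => Subtype.ext (hE.comm a a.2 b b.2).eq⟩⟩
  rw [← gen_eq E V hA hEV (by rw [hE.card]; exact ((hr.out.coprime_iff_not_dvd.2 hco).pow_left 2))]
  refine iSup₂_le fun B hB => ?_
  obtain ⟨hBE, a, ha, hBa⟩ := hB
  obtain ⟨b, hb, hb1⟩ : ∃ b ∈ B, b ≠ 1 := by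
    by_contra hcon
    have hB0 : B = ⊥ := (Subgroup.eq_bot_iff_forall _).2 fun b hb => by
      by_contra hb1; exact hcon ⟨b, hb, hb1⟩
    rw [hB0, bot_sup_eq] at hBa
    exact hE.not_le_zpowers a ha hBa.ge
  rintro v ⟨hv, hvB⟩
  exact h b (hBE hb) hb1 v hv (Subgroup.mem_centralizer_iff.1 hvB b hb)

theorem exists_fix (hE : Elem r E) [hr : Fact r.Prime] {V : Subgroup G}
    (hEV : E ≤ Subgroup.normalizer (V : Set G)) (hco : ¬ r ∣ Nat.card V) (hV : V ≠ ⊥) :
    ∃ e ∈ E, e ≠ 1 ∧ Fix V e := by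
  by_contra hcon
  refine hV (le_bot_iff.1 (hE.gen hEV hco fun e he he1 v hv hc => ?_))
  by_contra hv1
  exact hcon ⟨e, he, he1, v, hv, fun e0 => hv1 (e0 ▸ one_mem _), hc⟩

/-- Two independent elements generate. -/
theorem commute_all (hE : Elem r E) [hr : Fact r.Prime] {e f w : G} (he : e ∈ E) (he1 : e ≠ 1) (hf : f ∈ E)
    (hfe : f ∉ Subgroup.zpowers e) (hew : Commute e w) (hfw : Commute f w) : ∀ a ∈ E, Commute a w := by
  have h := elem_of_pair hr.out (hE.exp f hf) (hE.exp e he) he1 (hE.comm f hf e he) hfe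
  have hEq : Subgroup.zpowers e ⊔ Subgroup.zpowers f = E :=
    Subgroup.eq_of_le_of_card_ge (sup_le (Subgroup.zpowers_le.2 he) (Subgroup.zpowers_le.2 hf))
      (by rw [h.card, hE.card])
  intro a ha
  have h2 : Subgroup.zpowers e ⊔ Subgroup.zpowers f ≤ Subgroup.centralizer ({w} : Set G) :=
    sup_le (Subgroup.zpowers_le.2 (Subgroup.mem_centralizer_singleton_iff.2 hew.eq))
      (Subgroup.zpowers_le.2 (Subgroup.mem_centralizer_singleton_iff.2 hfw.eq))
  exact Subgroup.mem_centralizer_singleton_iff.1 (h2 (hEq.symm ▸ ha))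

theorem exists_ne_one (hE : Elem r E) [Fact r.Prime] (e : G) (he : e ∈ E) :
    ∃ f ∈ E, f ∉ Subgroup.zpowers e := SetLike.not_le_iff_exists.1 (hE.not_le_zpowers e he)

theorem smul (hE : Elem r E) (g : G) : Elem r (MulAut.conj g • E) := by
  refine ⟨fun a ha b hb => ?_, fun a ha => ?_, by rw [card_conj_smul, hE.card]⟩
  · rw [mem_conj_smul] at ha hb
    have h := (hE.comm _ ha _ hb).map (MulAut.conj g).toMonoidHom
    simpa [mul_assoc] using h
  · rw [mem_conj_smul] at ha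
    have h := congrArg (MulAut.conj g) (hE.exp _ ha)
    rw [map_pow, map_one] at h
    simpa [mul_assoc] using h

end Elem

/-- A group with fixed-point-free elements of order `r` on a nontrivial coprime group has `r`-rank one. -/
theorem r1_of_fpf {r : ℕ} [hr : Fact r.Prime] {S V : Subgroup G} (hV : V ≠ ⊥) (hco : ¬ r ∣ Nat.card V)
    (hSV : S ≤ Subgroup.normalizer (V : Set G)) (h : ∀ x ∈ S, orderOf x = r → ¬ Fix V x) : R1 r S := by
  intro x hx y hy hxr hyr hy1 hc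
  by_contra hxy
  have hle : Subgroup.zpowers y ⊔ Subgroup.zpowers x ≤ S :=
    sup_le (Subgroup.zpowers_le.2 hy) (Subgroup.zpowers_le.2 hx)
  obtain ⟨e, he, he1, hf⟩ := (elem_of_pair hr.out hxr hyr hy1 hc hxy).exists_fix (hle.trans hSV) hco hV
  exact h e (hle he) (orderOf_eq hr.out ((elem_of_pair hr.out hxr hyr hy1 hc hxy).exp e he) he1) hf

theorem isCyclic_of_r1 {r : ℕ} [hr : Fact r.Prime] (hr2 : r ≠ 2) {S : Subgroup G} (hS : IsPGroup r S)
    (h : R1 r S) : IsCyclic S := by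
  by_cases hbot : Subsingleton S
  · infer_instance
  haveI : Nontrivial S := not_subsingleton_iff_nontrivial.1 hbot
  refine ((cyclic_or_quaternion hS (fun x y hx hy hy1 => ?_)).resolve_right fun h => hr2 h.1)
  obtain ⟨c, hc, hco⟩ := exists_prime_order (H := Subgroup.center S) (hS.to_subgroup _)
    (fun e => haveI := hS.center_nontrivial; (Subgroup.nontrivial_iff_ne_bot _).1 this e)
  have hcr : (c : G) ^ r = 1 := by
    rw [← SubmonoidClass.coe_pow, pow_eq_of_orderOf hco]; rfl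
  have hc1 : (c : G) ≠ 1 := fun e => ne_one_of_orderOf hr.out hco (Subtype.ext e)
  have hcx : ∀ w : S, Commute (w : G) (c : G) := fun w =>
    congrArg Subtype.val (Subgroup.mem_center_iff.1 hc w)
  have h1 : (x : G) ∈ Subgroup.zpowers (c : G) :=
    h x x.2 c c.2 (congrArg Subtype.val hx) hcr hc1 (hcx x)
  have h2 : (c : G) ∈ Subgroup.zpowers (y : G) :=
    h c c.2 y y.2 hcr (congrArg Subtype.val hy) (fun e => hy1 (Subtype.ext e)) (hcx y).symm
  obtain ⟨i, hi⟩ := Subgroup.mem_zpowers_iff.1 (Subgroup.zpowers_le.2 h2 h1)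
  exact Subgroup.mem_zpowers_iff.2 ⟨i, Subtype.ext (by rw [SubgroupClass.coe_zpow]; exact hi)⟩

/-- A Frobenius group of operators: if the complement has no fixed points the kernel acts trivially. -/
theorem frob {p : ℕ} [hp : Fact p.Prime] {V U E : Subgroup G} (hV : IsPGroup p V)
    (hUV : U ≤ Subgroup.normalizer (V : Set G)) (hEV : E ≤ Subgroup.normalizer (V : Set G))
    (hEU : E ≤ Subgroup.normalizer (U : Set G))
    (hfpf : ∀ e ∈ E, e ≠ 1 → ∀ u ∈ U, Commute e u → u = 1)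
    (hU : ¬ p ∣ Nat.card U) (hE : ¬ p ∣ Nat.card E)
    (hfix : ∀ v ∈ V, (∀ e ∈ E, Commute e v) → v = 1) : ∀ u ∈ U, ∀ v ∈ V, Commute u v := by
  obtain ⟨k, hk⟩ := IsPGroup.iff_card.1 hV
  have hsol : Group.IsSolvable V := by haveI := hV.isNilpotent; infer_instance
  have hco : (Nat.card V).Coprime (Nat.card ↥(U ⊔ E)) := by
    rw [hk]
    refine Nat.Coprime.pow_left _ (hp.out.coprime_iff_not_dvd.2 fun h => ?_)
    have h1 := card_sup_mul_card_inf' U E hEU
    rcases hp.out.dvd_mul.1 (h1 ▸ h.mul_right _) with h2 | h2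
    exacts [hU h2, hE h2]
  have key := FrobFix.formula V U E hsol (sup_le hUV hEV) hEU (fun e he he1 u hu h => hfpf e he he1 u hu h) hco
  have hCE : V ⊓ Subgroup.centralizer (E : Set G) = ⊥ := (Subgroup.eq_bot_iff_forall _).2 fun v hv =>
    hfix v hv.1 fun e he => Subgroup.mem_centralizer_iff.1 hv.2 e he
  have hCUE : V ⊓ Subgroup.centralizer ((U ⊔ E : Subgroup G) : Set G) = ⊥ :=
    le_bot_iff.1 ((inf_le_inf_left _ (Subgroup.centralizer_le (SetLike.coe_subset_coe.2 le_sup_right))).trans hCE.le)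
  rw [hCE, hCUE, Subgroup.card_bot, one_pow, one_mul, one_mul] at key
  have hVU : V ⊓ Subgroup.centralizer (U : Set G) = V := Subgroup.eq_of_le_of_card_ge inf_le_left key.le
  intro u hu v hv
  exact Subgroup.mem_centralizer_iff.1 (hVU.ge hv).2 u hu

/-- Elements of order dividing `p` of the centre of `S`. -/
def om (p : ℕ) (S : Subgroup G) : Subgroup G where
  carrier := {x | x ∈ S ∧ (∀ y ∈ S, Commute x y) ∧ x ^ p = 1}
  one_mem' := ⟨one_mem _, fun y _ => Commute.one_left y, one_pow _⟩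
  mul_mem' := fun {a b} ha hb => ⟨mul_mem ha.1 hb.1, fun y hy => (ha.2.1 y hy).mul_left (hb.2.1 y hy),
    by rw [(ha.2.1 b hb.1).mul_pow, ha.2.2, hb.2.2, one_mul]⟩
  inv_mem' := fun {a} ha => ⟨inv_mem ha.1, fun y hy => (ha.2.1 y hy).inv_left,
    by rw [inv_pow, ha.2.2, inv_one]⟩

omit [Finite G] in
theorem mem_om {p : ℕ} {S : Subgroup G} {x : G} :
    x ∈ om p S ↔ x ∈ S ∧ (∀ y ∈ S, Commute x y) ∧ x ^ p = 1 := Iff.rfl

omit [Finite G] in
theorem normalizer_om {p : ℕ} {S : Subgroup G} :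
    Subgroup.normalizer (S : Set G) ≤ Subgroup.normalizer (om p S : Set G) := by
  refine Subgroup.le_normalizer_iff.2 fun g hg x hx => ⟨(Subgroup.mem_normalizer_iff.1 hg x).1 hx.1,
    fun y hy => ?_, by rw [conj_pow, hx.2.2, mul_one, mul_inv_cancel]⟩
  have h1 : g⁻¹ * y * g ∈ S := by
    simpa using (Subgroup.mem_normalizer_iff.1 (inv_mem hg) y).1 hy
  calc g * x * g⁻¹ * y = g * (x * (g⁻¹ * y * g)) * g⁻¹ := by group
    _ = g * ((g⁻¹ * y * g) * x) * g⁻¹ := by rw [(hx.2.1 _ h1).eq]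
    _ = _ := by group

theorem exists_mem_om {p : ℕ} [hp : Fact p.Prime] {S : Subgroup G} (hS : IsPGroup p S) (h : S ≠ ⊥) :
    ∃ z ∈ om p S, orderOf z = p := by
  haveI : Nontrivial S := (Subgroup.nontrivial_iff_ne_bot S).2 h
  haveI := hS.center_nontrivial
  obtain ⟨c, hc, hco⟩ := exists_prime_order (H := Subgroup.center S) (hS.to_subgroup _)
    ((Subgroup.nontrivial_iff_ne_bot _).1 this)
  refine ⟨c, mem_om.2 ⟨c.2, fun y hy => congrArg Subtype.val (Subgroup.mem_center_iff.1 hc ⟨y, hy⟩).symm, ?_⟩,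
    by rw [Subgroup.orderOf_coe, hco]⟩
  rw [← SubmonoidClass.coe_pow, pow_eq_of_orderOf hco]; rfl

/-- The commutators with an element of an abelian subgroup it normalises. -/
theorem exists_comm_image {X : Subgroup G} (hX : ∀ a ∈ X, ∀ b ∈ X, Commute a b) {e : G} {s : ℕ}
    (he : e ^ s = 1) (heX : e ∈ Subgroup.normalizer (X : Set G))
    (hco : ∀ u ∈ X, (orderOf u).Coprime s) :
    ∃ U ≤ X, (∀ x ∈ X, e * x * e⁻¹ * x⁻¹ ∈ U) ∧ (∀ u ∈ U, Commute e u → u = 1) ∧
      ∀ f : G, Commute f e → f ∈ Subgroup.normalizer (X : Set G) → f ∈ Subgroup.normalizer (U : Set G) := by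
  have hn : ∀ x ∈ X, e * x * e⁻¹ ∈ X := fun x hx => (Subgroup.mem_normalizer_iff.1 heX x).1 hx
  let U : Subgroup G :=
    { carrier := {u | ∃ x ∈ X, e * x * e⁻¹ * x⁻¹ = u}
      one_mem' := ⟨1, one_mem _, by group⟩
      mul_mem' := by
        rintro _ _ ⟨a, ha, rfl⟩ ⟨b, hb, rfl⟩
        refine ⟨a * b, mul_mem ha hb, ?_⟩
        have h := (hX _ (inv_mem ha) _ (mul_mem (hn b hb) (inv_mem hb))).eq
        calc e * (a * b) * e⁻¹ * (a * b)⁻¹ = (e * a * e⁻¹) * ((e * b * e⁻¹ * b⁻¹) * a⁻¹) := by group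
          _ = (e * a * e⁻¹) * (a⁻¹ * (e * b * e⁻¹ * b⁻¹)) := by rw [h]
          _ = _ := by group
      inv_mem' := by
        rintro _ ⟨a, ha, rfl⟩
        refine ⟨a⁻¹, inv_mem ha, ?_⟩
        have h := (hX _ (hn a ha) _ (inv_mem ha)).eq
        calc e * a⁻¹ * e⁻¹ * a⁻¹⁻¹ = (a⁻¹ * (e * a * e⁻¹))⁻¹ := by group
          _ = ((e * a * e⁻¹) * a⁻¹)⁻¹ := by rw [h] }
  refine ⟨U, ?_, fun x hx => ⟨x, hx, rfl⟩, ?_, fun f hfe hfX => ?_⟩
  · rintro _ ⟨x, hx, rfl⟩
    exact mul_mem (hn x hx) (inv_mem hx)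
  · rintro u ⟨x, hx, hu⟩ hc
    have hex : e * x * e⁻¹ = u * x := by rw [← hu]; group
    have hit : ∀ i : ℕ, e ^ i * x * (e ^ i)⁻¹ = u ^ i * x := by
      intro i
      induction i with
      | zero => group
      | succ i ih =>
        calc e ^ (i + 1) * x * (e ^ (i + 1))⁻¹ = e * (e ^ i * x * (e ^ i)⁻¹) * e⁻¹ := by group
          _ = (e * u ^ i * e⁻¹) * (e * x * e⁻¹) := by rw [ih]; group
          _ = u ^ i * (u * x) := by rw [(hc.pow_right i).eq, mul_inv_cancel_right, hex]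
          _ = _ := by group
    have h1 := hit s
    rw [he, one_mul, inv_one, mul_one] at h1
    have h2 : u ^ s = 1 := mul_right_cancel (b := x) (by rw [one_mul, ← h1])
    exact orderOf_eq_one_iff.1 (Nat.Coprime.eq_one_of_dvd
      (hco u (hu ▸ mul_mem (hn x hx) (inv_mem hx))) (orderOf_dvd_of_pow_eq_one h2))
  · have key : ∀ g : G, Commute g e → g ∈ Subgroup.normalizer (X : Set G) → ∀ u ∈ U, g * u * g⁻¹ ∈ U := by
      rintro g hge hgX _ ⟨x, hx, rfl⟩
      refine ⟨g * x * g⁻¹, (Subgroup.mem_normalizer_iff.1 hgX x).1 hx, ?_⟩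
      calc e * (g * x * g⁻¹) * e⁻¹ * (g * x * g⁻¹)⁻¹ = (e * g) * x * (e * g)⁻¹ * (g * x * g⁻¹)⁻¹ := by group
        _ = (g * e) * x * (g * e)⁻¹ * (g * x * g⁻¹)⁻¹ := by rw [hge.eq]
        _ = _ := by group
    refine Subgroup.mem_normalizer_iff.2 fun u => ⟨key f hfe hfX u, fun h => ?_⟩
    have := key f⁻¹ hfe.inv_left (inv_mem hfX) _ h
    simpa [mul_assoc] using this

/-- A Hall subgroup receiving a conjugate of every subgroup of its type. -/
theorem exists_hall (hG : Group.IsSolvable G) (τ : Set ℕ) :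
    ∃ H : Subgroup G, (∀ y : ℕ, y.Prime → y ∣ Nat.card H → y ∈ τ) ∧
      ∀ X : Subgroup G, (∀ y : ℕ, y.Prime → y ∣ Nat.card X → y ∈ τ) → ∃ g : G, MulAut.conj g • X ≤ H := by
  obtain ⟨m, n, hmn, hco, hm, hn⟩ := exists_pi_split τ (Nat.card G) Nat.card_pos.ne'
  obtain ⟨H, hH⟩ := hall_exists hG hmn hco
  refine ⟨H, fun y hy hd => hm y hy (hH ▸ hd), fun X hX => ?_⟩
  obtain ⟨g, hg⟩ := hall_contain hG hmn hco X H (coprime_of_pi hX hn) hH
  exact ⟨g⁻¹, Subgroup.pointwise_smul_subset_iff.2 (by rwa [← map_inv, inv_inv])⟩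

/-- A `p`-group with a noncentral element of order `p` has one conjugate to a translate by a central one. -/
theorem trick {S : Type u} [Group S] [Finite S] {q : ℕ} [hq : Fact q.Prime] (hS : IsPGroup q S) {z : S}
    (hz : z ∈ Subgroup.center S) (hzo : orderOf z = q)
    (hc : ∀ c ∈ Subgroup.center S, c ^ q = 1 → c ∈ Subgroup.zpowers z)
    (hn : ∃ a : S, a ^ q = 1 ∧ a ∉ Subgroup.zpowers z) :
    ∃ a : S, a ^ q = 1 ∧ a ∉ Subgroup.zpowers z ∧
      ∀ w ∈ Subgroup.zpowers z, ∃ g : S, g * a * g⁻¹ = a * w := by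
  classical
  haveI := hS.isNilpotent
  obtain ⟨a₁, ⟨ha₁, ha₁'⟩, hmax⟩ := Set.exists_max_image {a : S | a ^ q = 1 ∧ a ∉ Subgroup.zpowers z}
    (fun a => Nat.card (Subgroup.centralizer ({a} : Set S))) (Set.toFinite _) hn
  set C := Subgroup.centralizer ({a₁} : Set S) with hC
  have hCne : C ≠ ⊤ := fun h => ha₁' (hc a₁ (Subgroup.mem_center_iff.2 fun g =>
    Subgroup.mem_centralizer_singleton_iff.1 (h ▸ Subgroup.mem_top g : g ∈ C)) ha₁)
  have hlt : C < Subgroup.normalizer (C : Set S) :=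
    normalizerCondition_of_isNilpotent C (lt_top_iff_ne_top.2 hCne)
  have hza : ∀ g : S, Commute g z := fun g => Subgroup.mem_center_iff.1 hz g
  set E₀ := om q C with hE₀
  have hzE : z ∈ E₀ := mem_om.2 ⟨Subgroup.mem_centralizer_singleton_iff.2 (hza a₁).symm.eq,
    fun y _ => (hza y).symm, pow_eq_of_orderOf hzo⟩
  have haE : a₁ ∈ E₀ := mem_om.2 ⟨Subgroup.mem_centralizer_singleton_iff.2 rfl,
    fun y hy => (Subgroup.mem_centralizer_singleton_iff.1 hy).symm, ha₁⟩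
  obtain ⟨a, haE₀, haz, hfix⟩ := Fusion.exists_fixed_mod (N := Subgroup.zpowers z) (C := E₀)
    (Q := Subgroup.normalizer (C : Set S)) normalizer_om (fun h => ha₁' (h haE))
  refine ⟨a, haE₀.2.2, haz, ?_⟩
  obtain ⟨b, hb, hba⟩ : ∃ b ∈ Subgroup.normalizer (C : Set S), ¬ Commute b a := by
    by_contra hcon
    have hle : Subgroup.normalizer (C : Set S) ≤ Subgroup.centralizer ({a} : Set S) := fun g hg => by
      refine Subgroup.mem_centralizer_singleton_iff.2 ?_
      by_contra hga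
      exact hcon ⟨g, hg, hga⟩
    exact absurd (hmax a ⟨haE₀.2.2, haz⟩)
      (not_le.2 (card_lt_of_lt (lt_of_lt_of_le hlt hle)))
  set w₀ := ⁅a, b⁆⁻¹ with hw₀
  have hw₀z : w₀ ∈ Subgroup.zpowers z := inv_mem (hfix b hb)
  have hca : ∀ w ∈ Subgroup.zpowers z, ∀ g : S, Commute g w := fun w hw g =>
    (commute_zpowers (hza g).symm hw).symm
  have hbw : b * a * b⁻¹ = a * w₀ := by
    rw [(hca w₀ hw₀z a).eq, hw₀, commutatorElement_def]; group
  have hit : ∀ i : ℕ, b ^ i * a * (b ^ i)⁻¹ = a * w₀ ^ i := by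
    intro i
    induction i with
    | zero => group
    | succ i ih =>
      calc b ^ (i + 1) * a * (b ^ (i + 1))⁻¹ = b * (b ^ i * a * (b ^ i)⁻¹) * b⁻¹ := by group
        _ = (b * a * b⁻¹) * (b * w₀ ^ i * b⁻¹) := by rw [ih]; group
        _ = a * w₀ * w₀ ^ i := by rw [hbw, ((hca w₀ hw₀z b).pow_right i).eq, mul_inv_cancel_right]
        _ = _ := by group
  have hw₀1 : w₀ ≠ 1 := fun h => hba (by
    have := hbw
    rw [h, mul_one, mul_inv_eq_iff_eq_mul] at this
    exact this)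
  intro w hw
  have hwz : w ∈ Subgroup.zpowers w₀ :=
    Subgroup.zpowers_le.2 (mem_zpowers_gen hq.out (pow_eq_of_orderOf hzo) hw₀z hw₀1) hw
  obtain ⟨i, rfl⟩ := mem_powers_iff_mem_zpowers.2 hwz
  exact ⟨b ^ i, hit i⟩

end Cfsg.Agent.Solv.FourPrimes
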