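import Cfsg.Agent.Lib.Solv.FourPrimes.Setup

/-!
The case of two primes in the Fitting subgroup.
-/

set_option autoImplicit false
set_option linter.style.haveILetI false

open scoped Pointwise commutatorElement
open Cfsg

namespace Cfsg.Agent.Solv.FourPrimes

universe u

variable {G : Type u} [Group G] [Finite G]

/-- The image in `G` of a core of a subgroup. -/
def coreIn (y : ℕ) (K : Subgroup G) : Subgroup G := (pCore y ↥K).map K.subtype

omit [Finite G] in
theorem coreIn_le (y : ℕ) (K : Subgroup G) : coreIn y K ≤ K := Subgroup.map_subtype_le _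

omit [Finite G] in
theorem le_normalizer_coreIn (y : ℕ) (K : Subgroup G) :
    K ≤ Subgroup.normalizer (coreIn y K : Set G) := by
  haveI := pCore_normal (G := ↥K) y
  refine Subgroup.le_normalizer_iff.2 fun g hg x hx => ?_
  obtain ⟨w, hw, rfl⟩ := hx
  exact ⟨⟨g, hg⟩ * w * ⟨g, hg⟩⁻¹, Subgroup.Normal.conj_mem inferInstance w hw _, rfl⟩

theorem coreIn_isPGroup (y : ℕ) [Fact y.Prime] (K : Subgroup G) : IsPGroup y (coreIn y K) :=
  (pCore_isPGroup (G := ↥K) y).map K.subtype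

theorem coreIn_eq_bot {y : ℕ} [hy : Fact y.Prime] {K : Subgroup G} (h : ¬ y ∣ Nat.card K) : coreIn y K = ⊥ := by
  obtain ⟨n, hn⟩ := IsPGroup.iff_card.1 (coreIn_isPGroup y K)
  rcases n with _ | n
  · exact Subgroup.card_eq_one.1 (by rw [hn, pow_zero])
  · exact absurd (((dvd_pow_self y n.succ_ne_zero).trans (dvd_of_eq hn.symm)).trans
      (Subgroup.card_dvd_of_le (coreIn_le y K))) h

theorem exists_coreIn_ne_bot {K : Subgroup G} (hK : Group.IsSolvable K) (hne : K ≠ ⊥) :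
    ∃ y : ℕ, y.Prime ∧ y ∣ Nat.card K ∧ coreIn y K ≠ ⊥ := by
  haveI : Nontrivial K := (Subgroup.nontrivial_iff_ne_bot K).2 hne
  have h := fitting_ne_bot (G := ↥K) hK
  rw [fitting_eq_iSup_pCore] at h
  by_contra hcon
  refine h (le_bot_iff.1 (iSup_le fun y => ?_))
  haveI := Fact.mk y.2
  have h1 : coreIn (y : ℕ) K = ⊥ := by
    by_cases hd : (y : ℕ) ∣ Nat.card K
    · by_contra hne'
      exact hcon ⟨y, y.2, hd, hne'⟩
    · exact coreIn_eq_bot hd
  rw [coreIn, Subgroup.map_eq_bot_iff_of_injective _ K.subtype_injective] at h1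
  exact h1.le

/-- An element of prime order centralising all cores lies in its core. -/
theorem mem_pCore_of_commute {H : Type u} [Group H] [Finite H] (hH : Group.IsSolvable H) {q : ℕ}
    [hq : Fact q.Prime] {a : H} (ha : a ^ q = 1)
    (hc : ∀ y : Nat.Primes, ∀ o ∈ pCore (y : ℕ) H, Commute a o) : a ∈ pCore q H := by
  haveI := fittingSubgroup_normal (G := H)
  set M := Subgroup.centralizer (fittingSubgroup H : Set H) with hM
  have hMF : M ≤ fittingSubgroup H := centralizer_fitting_le hH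
  have hab : ∀ m ∈ M, ∀ n ∈ M, Commute m n := fun m hm n hn =>
    (Subgroup.mem_centralizer_iff.1 hn m (hMF hm))
  haveI hMn : M.Normal := inferInstance
  let N : Subgroup H :=
    { carrier := {m | m ∈ M ∧ m ^ q = 1}
      one_mem' := ⟨one_mem _, one_pow _⟩
      mul_mem' := fun {m n} hm hn => ⟨mul_mem hm.1 hn.1, by
        rw [(hab m hm.1 n hn.1).mul_pow, hm.2, hn.2, one_mul]⟩
      inv_mem' := fun {m} hm => ⟨inv_mem hm.1, by rw [inv_pow, hm.2, inv_one]⟩ }
  haveI : N.Normal := ⟨fun m hm g => ⟨hMn.conj_mem m hm.1 g, by rw [conj_pow, hm.2, mul_one, mul_inv_cancel]⟩⟩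
  have hN : IsPGroup q N := fun m => ⟨1, Subtype.ext (by rw [pow_one, SubmonoidClass.coe_pow]; exact m.2.2)⟩
  refine normal_le_pCore hN (show a ∈ N from ⟨?_, ha⟩)
  rw [hM, fitting_eq_iSup_pCore, Subgroup.mem_centralizer_iff]
  intro w hw
  have hle : (⨆ y : Nat.Primes, pCore (y : ℕ) H) ≤ Subgroup.centralizer ({a} : Set H) :=
    iSup_le fun y o ho => Subgroup.mem_centralizer_singleton_iff.2 (hc y o ho).symm.eq
  exact Subgroup.mem_centralizer_singleton_iff.1 (hle hw)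

/-- The data of the case: two nontrivial normal subgroups of prime power order with trivial joint centraliser. -/
structure DataA (p t : ℕ) (P T : Subgroup G) : Prop where
  nt : NoTriple G
  hp : p.Prime
  ht : t.Prime
  ne : p ≠ t
  pn : P.Normal
  tn : T.Normal
  pgp : IsPGroup p P
  pgt : IsPGroup t T
  pne : P ≠ ⊥
  tne : T ≠ ⊥
  faith : ∀ x : G, (orderOf x).Prime → orderOf x ≠ p → orderOf x ≠ t →
    (∀ v ∈ P, Commute x v) → (∀ w ∈ T, Commute x w) → False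

namespace DataA

variable {p t : ℕ} {P T : Subgroup G}

theorem symm (D : DataA p t P T) : DataA t p T P :=
  ⟨D.nt, D.ht, D.hp, D.ne.symm, D.tn, D.pn, D.pgt, D.pgp, D.tne, D.pne,
    fun x hx h1 h2 h3 h4 => D.faith x hx h2 h1 h4 h3⟩

theorem le_norm (D : DataA p t P T) (X : Subgroup G) : X ≤ Subgroup.normalizer (P : Set G) :=
  haveI := D.pn
  le_top.trans (Subgroup.normalizer_eq_top (H := P)).ge

/-- No element of a third prime order has fixed points on both. -/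
theorem rule (D : DataA p t P T) {x : G} {q : ℕ} (hq : q.Prime) (hqp : q ≠ p) (hqt : q ≠ t)
    (hx : orderOf x = q) (h1 : Fix P x) (h2 : Fix T x) : False := by
  haveI := Fact.mk D.hp
  haveI := Fact.mk D.ht
  obtain ⟨v, hv, hvo, hxv⟩ := Fix.exists_order D.pgp h1
  obtain ⟨w, hw, hwo, hxw⟩ := Fix.exists_order D.pgt h2
  have hd : Disjoint P T := by
    rw [disjoint_iff]
    refine coprime_inf ?_
    obtain ⟨i, hi⟩ := IsPGroup.iff_card.1 D.pgp
    obtain ⟨j, hj⟩ := IsPGroup.iff_card.1 D.pgt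
    rw [hi, hj]
    exact Nat.coprime_pow_primes _ _ D.hp D.ht D.ne
  exact D.nt q p t hq D.hp D.ht hqp D.ne hqt x v w hx hvo hwo hxv hxw
    (Subgroup.commute_of_normal_of_disjoint P T D.pn D.tn hd v w hv hw)

/-- Commuting elements of two further prime orders have no common fixed point. -/
theorem joint (D : DataA p t P T) {x y v : G} {q r : ℕ} (hq : q.Prime) (hr : r.Prime) (hqr : q ≠ r)
    (hqp : q ≠ p) (hrp : r ≠ p) (hx : orderOf x = q) (hy : orderOf y = r) (hxy : Commute x y)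
    (hv : v ∈ P) (hv1 : v ≠ 1) (hxv : Commute x v) (hyv : Commute y v) : False := by
  haveI := Fact.mk D.hp
  obtain ⟨k, hk⟩ := IsPGroup.iff_orderOf.1 D.pgp ⟨v, hv⟩
  rw [Subgroup.orderOf_mk] at hk
  have hk0 : k ≠ 0 := fun h0 => hv1 (orderOf_eq_one_iff.1 (by simpa [h0] using hk))
  exact D.nt q r p hq hr D.hp hqr hrp hqp x y _ hx hy
    (orderOf_pow_orderOf_div (orderOf_pos v).ne' (hk ▸ dvd_pow_self p hk0)) hxy (hxv.pow_right _)
    (hyv.pow_right _)

variable {q r : ℕ} {E : Subgroup G}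

theorem step (D : DataA p t P T) [hq : Fact q.Prime] [hr : Fact r.Prime] (hqr : q ≠ r) (hqp : q ≠ p)
    (hqt : q ≠ t) (hrp : r ≠ p) (hrt : r ≠ t) (hE : Elem r E) {W : Subgroup G}
    (hW : ∀ a ∈ W, ∀ b ∈ W, Commute a b) (hWq : ∀ a ∈ W, a ^ q = 1)
    (hEW : E ≤ Subgroup.normalizer (W : Set G)) {e e' : G} (he : e ∈ E) (he1 : e ≠ 1) (he' : e' ∈ E)
    (he'1 : e' ≠ 1) (hPe : Fix P e) (hTe' : Fix T e') : ∀ w ∈ W, Commute e w := by
  haveI := Fact.mk D.hp
  haveI := Fact.mk D.ht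
  have heo := orderOf_eq hr.out (hE.exp e he) he1
  have he'o := orderOf_eq hr.out (hE.exp e' he') he'1
  obtain ⟨U, hUW, hUmem, hUfpf, hUn⟩ := exists_comm_image hW (hE.exp e he) (hEW he) fun u hu =>
    Nat.Coprime.coprime_dvd_left (orderOf_dvd_of_pow_eq_one (hWq u hu)) ((Nat.coprime_primes hq.out hr.out).2 hqr)
  have hUq : IsPGroup q U := fun u => ⟨1, Subtype.ext (by
    rw [pow_one, SubmonoidClass.coe_pow]; exact hWq u (hUW u.2))⟩
  have hgen : ∀ {f : G}, f ^ r = 1 → ∀ g ∈ Subgroup.zpowers f, g ≠ 1 → ∀ u : G, Commute g u → Commute f u :=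
    fun hf g hg hg1 u h => commute_zpowers h (mem_zpowers_gen hr.out hf hg hg1)
  have hz : ∀ {f : G}, f ∈ E → f ≠ 1 → Nat.card (Subgroup.zpowers f) = r := fun {f} hf hf1 => by
    rw [Nat.card_zpowers, orderOf_eq hr.out (hE.exp f hf) hf1]
  have hT := frob (V := T) (U := U) (E := Subgroup.zpowers e) D.pgt (D.symm.le_norm _) (D.symm.le_norm _)
    (Subgroup.zpowers_le.2 (hUn e (Commute.refl e) (hEW he)))
    (fun g hg hg1 u hu h => hUfpf u hu (hgen (hE.exp e he) g hg hg1 u h))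
    (coprime_of_ne hqt hUq) (by rw [hz he he1]; exact fun h => hrt ((Nat.prime_dvd_prime_iff_eq D.ht hr.out).1 h).symm)
    (fun v hv h => by
      by_contra hv1
      exact D.rule hr.out hrp hrt heo hPe ⟨v, hv, hv1, h e (Subgroup.mem_zpowers e)⟩)
  obtain ⟨v, hv, hv1, hev⟩ := hTe'
  have hU1 : ∀ u ∈ U, u = 1 := by
    intro u hu
    by_contra hu1
    have hfixT : ∀ {u : G}, u ∈ U → u ≠ 1 → ¬ Fix P u := fun {u} hu hu1 hP =>
      D.rule hq.out hqp hqt (orderOf_eq hq.out (hWq u (hUW hu)) hu1) hP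
        ⟨v, hv, hv1, hT u hu v hv⟩
    have hP := frob (V := P) (U := U) (E := Subgroup.zpowers e') D.pgp (D.le_norm _) (D.le_norm _)
      (Subgroup.zpowers_le.2 (hUn e' (hE.comm e' he' e he) (hEW he')))
      (fun g hg hg1 u' hu' h => by
        by_contra hu'1
        exact D.symm.joint hq.out hr.out hqr hqt hrt (orderOf_eq hq.out (hWq u' (hUW hu')) hu'1) he'o
          (hgen (hE.exp e' he') g hg hg1 u' h).symm hv hv1 (hT u' hu' v hv) hev)
      (coprime_of_ne hqp hUq)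
      (by rw [hz he' he'1]; exact fun h => hrp ((Nat.prime_dvd_prime_iff_eq D.hp hr.out).1 h).symm)
      (fun w hw h => by
        by_contra hw1
        exact D.rule hr.out hrp hrt he'o ⟨w, hw, hw1, h e' (Subgroup.mem_zpowers e')⟩ ⟨v, hv, hv1, hev⟩)
    obtain ⟨⟨w, hw⟩, hw1⟩ := Subgroup.ne_bot_iff_exists_ne_one.1 D.pne
    exact hfixT hu hu1 ⟨w, hw, fun h => hw1 (Subtype.ext h), hP u hu w hw⟩
  intro w hw
  exact mul_inv_eq_iff_eq_mul.1 (mul_inv_eq_one.1 (hU1 _ (hUmem w hw)))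

theorem omega (D : DataA p t P T) [hq : Fact q.Prime] [hr : Fact r.Prime] (hqr : q ≠ r) (hqp : q ≠ p)
    (hqt : q ≠ t) (hrp : r ≠ p) (hrt : r ≠ t) (hE : Elem r E) {Q : Subgroup G}
    (hEQ : E ≤ Subgroup.normalizer (Q : Set G)) :
    (∀ w ∈ om q Q, w ≠ 1 → ¬ Fix P w ∧ ¬ Fix T w) ∧ (∀ w ∈ om q Q, ∀ e ∈ E, Commute e w) ∧
      R1 q (om q Q) := by
  haveI := Fact.mk D.hp
  haveI := Fact.mk D.ht
  have hEW : E ≤ Subgroup.normalizer (om q Q : Set G) := hEQ.trans normalizer_om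
  have hW : ∀ a ∈ om q Q, ∀ b ∈ om q Q, Commute a b := fun a ha b hb => (mem_om.1 ha).2.1 b (mem_om.1 hb).1
  have hWq : ∀ a ∈ om q Q, a ^ q = 1 := fun a ha => (mem_om.1 ha).2.2
  obtain ⟨e, he, he1, hPe⟩ := hE.exists_fix (D.le_norm E) (coprime_of_ne hrp.symm D.pgp) D.pne
  obtain ⟨e', he', he'1, hTe'⟩ := hE.exists_fix (D.symm.le_norm E) (coprime_of_ne hrt.symm D.pgt) D.tne
  have hc1 := D.step hqr hqp hqt hrp hrt hE hW hWq hEW he he1 he' he'1 hPe hTe'
  have hc2 := D.symm.step hqr hqt hqp hrt hrp hE hW hWq hEW he' he'1 he he1 hTe' hPe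
  have hne : e' ∉ Subgroup.zpowers e := fun h => by
    obtain ⟨v, hv, hv1, hev⟩ := hTe'
    exact D.rule hr.out hrp hrt (orderOf_eq hr.out (hE.exp e he) he1) hPe
      ⟨v, hv, hv1, commute_zpowers hev (mem_zpowers_gen hr.out (hE.exp e he) h he'1)⟩
  have hall : ∀ w ∈ om q Q, ∀ f ∈ E, Commute f w := fun w hw f hf =>
    hE.commute_all he he1 he' hne (hc1 w hw) (hc2 w hw) f hf
  have hfix : ∀ {p t : ℕ} {P T : Subgroup G}, DataA p t P T → q ≠ p → r ≠ p → ∀ w ∈ om q Q, w ≠ 1 → ¬ Fix P w := by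
    intro p t P T D hqp hrp w hw hw1 hf
    haveI := Fact.mk D.hp
    obtain ⟨v, hv, hv1, hwv⟩ := hf
    set V := P ⊓ Subgroup.centralizer ({w} : Set G)
    have hV : V ≠ ⊥ := fun h => hv1 ((Subgroup.eq_bot_iff_forall _).1 h v
      ⟨hv, Subgroup.mem_centralizer_singleton_iff.2 hwv.eq.symm⟩)
    have hEV : E ≤ Subgroup.normalizer (V : Set G) := Subgroup.le_normalizer_iff.2 fun f hf x hx =>
      ⟨(Subgroup.mem_normalizer_iff.1 (D.le_norm E hf) x).1 hx.1, Subgroup.mem_centralizer_singleton_iff.2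
        (((hall w hw f hf).mul_left (Subgroup.mem_centralizer_singleton_iff.1 hx.2)).mul_left
          (hall w hw f hf).inv_left).eq⟩
    obtain ⟨f, hf, hf1, x, hx, hx1, hfx⟩ :=
      hE.exists_fix hEV (coprime_of_ne hrp.symm (D.pgp.to_le inf_le_left)) hV
    exact D.joint hq.out hr.out hqr hqp hrp (orderOf_eq hq.out (hWq w hw) hw1)
      (orderOf_eq hr.out (hE.exp f hf) hf1) (hall w hw f hf).symm hx.1 hx1
      (Subgroup.mem_centralizer_singleton_iff.1 hx.2 : Commute x w).symm hfx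
  refine ⟨fun w hw hw1 => ⟨hfix D hqp hrp w hw hw1, hfix D.symm hqt hrt w hw hw1⟩, hall, ?_⟩
  exact r1_of_fpf D.pne (coprime_of_ne hqp.symm D.pgp) (D.le_norm _) fun x hx hxo =>
    hfix D hqp hrp x hx (ne_one_of_orderOf hq.out hxo)

/-- No group of operators with a centre cyclic and fixed-point-free has a second subgroup of order `q`. -/
theorem trick_false (D : DataA p t P T) [hq : Fact q.Prime] (hqp : q ≠ p) (hqt : q ≠ t) {S : Subgroup G}
    (hS : IsPGroup q S) {z : G} (hz : z ∈ S) (hzc : ∀ y ∈ S, Commute z y) (hzo : orderOf z = q)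
    (hzP : ¬ Fix P z) (hzT : ¬ Fix T z) (hc : ∀ c ∈ om q S, c ∈ Subgroup.zpowers z) (hn : ¬ R1 q S) :
    False := by
  have hzs : ∀ w : S, (w : G) ∈ Subgroup.zpowers z ↔ w ∈ Subgroup.zpowers (⟨z, hz⟩ : S) := fun w => by
    rw [Subgroup.mem_zpowers_iff, Subgroup.mem_zpowers_iff]
    exact exists_congr fun i => ⟨fun h => Subtype.ext (by simpa using h), fun h => by simpa using congrArg Subtype.val h⟩
  obtain ⟨a, ha, haz, hconj⟩ := trick hS (z := ⟨z, hz⟩)
    (Subgroup.mem_center_iff.2 fun g => Subtype.ext (hzc g g.2).symm.eq) (by rw [Subgroup.orderOf_mk, hzo])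
    (fun c hc1 hcq => (hzs c).1 (hc c (mem_om.2 ⟨c.2, fun y hy =>
      congrArg Subtype.val (Subgroup.mem_center_iff.1 hc1 ⟨y, hy⟩).symm, congrArg Subtype.val hcq⟩)))
    (by
      by_contra hcon
      refine hn fun x hx y hy hxq hyq hy1 _ => ?_
      have hxz : x ∈ Subgroup.zpowers z := by
        by_contra h
        exact hcon ⟨⟨x, hx⟩, Subtype.ext hxq, fun h' => h ((hzs _).2 h')⟩
      have hyz : y ∈ Subgroup.zpowers z := by
        by_contra h
        exact hcon ⟨⟨y, hy⟩, Subtype.ext hyq, fun h' => h ((hzs _).2 h')⟩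
      exact Subgroup.zpowers_le.2 (mem_zpowers_gen hq.out (pow_eq_of_orderOf hzo) hyz hy1) hxz)
  have haq : (a : G) ^ q = 1 := congrArg Subtype.val ha
  have haz' : (a : G) ∉ Subgroup.zpowers z := fun h => haz ((hzs a).1 h)
  have hEl := elem_of_pair hq.out haq (pow_eq_of_orderOf hzo) (ne_one_of_orderOf hq.out hzo)
    (hzc a a.2).symm haz'
  -- `a` itself has fixed points
  have key : ∀ {p t : ℕ} {P T : Subgroup G}, DataA p t P T → q ≠ p → ¬ Fix P z → Fix P a := by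
    intro p t P T D hqp hzP
    haveI := Fact.mk D.hp
    obtain ⟨e, he, he1, v, hv, hv1, hev⟩ := hEl.exists_fix (D.le_norm _) (coprime_of_ne hqp.symm D.pgp) D.pne
    have hn' : Subgroup.zpowers (a : G) ≤ Subgroup.normalizer (Subgroup.zpowers z : Set G) :=
      le_trans (Subgroup.zpowers_le.2 (Subgroup.mem_centralizer_iff.2 fun y hy =>
        (commute_zpowers (hzc a a.2) hy).eq)) (Subgroup.centralizer_le_normalizer _)
    rw [← SetLike.mem_coe, Subgroup.coe_mul_of_right_le_normalizer_left _ _ hn'] at he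
    obtain ⟨w, hw, b, hb, rfl⟩ := Set.mem_mul.1 he
    have hb1 : b ≠ 1 := by
      rintro rfl
      rw [mul_one] at hev he1
      exact hzP ⟨v, hv, hv1, commute_zpowers hev (mem_zpowers_gen hq.out (pow_eq_of_orderOf hzo) hw he1)⟩
    obtain ⟨j, hj⟩ := Subgroup.mem_zpowers_iff.1 (mem_zpowers_gen hq.out haq hb hb1)
    have hwS : ∀ y ∈ S, Commute w y := fun y hy => commute_zpowers (hzc y hy) hw
    have hbS : b ∈ S := Subgroup.zpowers_le.2 a.2 hb
    have hej : (w * b) ^ j = a * w ^ j := by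
      rw [(hwS b hbS).mul_zpow, hj, ((hwS a a.2).zpow_left j).eq]
    have hwzS : w ^ j ∈ S := zpow_mem (Subgroup.zpowers_le.2 hz hw) j
    obtain ⟨g, hg⟩ := hconj ⟨w ^ j, hwzS⟩ ((hzs _).1 (zpow_mem hw j))
    have hg' : (g : G) * a * (g : G)⁻¹ = a * w ^ j := congrArg Subtype.val hg
    haveI := D.pn
    refine ⟨(g : G)⁻¹ * v * g, by simpa using D.pn.conj_mem v hv (g : G)⁻¹,
      fun h => hv1 (calc v = (g : G) * ((g : G)⁻¹ * v * g) * (g : G)⁻¹ := by group
        _ = 1 := by rw [h]; group), ?_⟩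
    have h2 : Commute ((g : G) * a * (g : G)⁻¹) v := hg'.symm ▸ hej ▸ hev.zpow_left j
    have h3 := h2.map (MulAut.conj (g : G)⁻¹).toMonoidHom
    simpa [mul_assoc] using h3
  exact D.rule hq.out hqp hqt (orderOf_eq hq.out haq fun h => haz' (h ▸ one_mem _))
    (key D hqp hzP) (key D.symm hqt hzT)

theorem core_facts (D : DataA p t P T) [hq : Fact q.Prime] [hr : Fact r.Prime] (hqr : q ≠ r) (hqp : q ≠ p)
    (hqt : q ≠ t) (hrp : r ≠ p) (hrt : r ≠ t) {K : Subgroup G} (hE : Elem r E) (hEK : E ≤ K)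
    (hC : coreIn q K ≠ ⊥) :
    ∃ z, z ∈ om q (coreIn q K) ∧ orderOf z = q ∧ ¬ Fix P z ∧ ¬ Fix T z ∧
      (∀ c ∈ om q (coreIn q K), c ∈ Subgroup.zpowers z) ∧ R1 q (coreIn q K) := by
  obtain ⟨h1, h2, h3⟩ := D.omega (q := q) (r := r) hqr hqp hqt hrp hrt hE
    (hEK.trans (le_normalizer_coreIn q K))
  obtain ⟨z, hz, hzo⟩ := exists_mem_om (coreIn_isPGroup q K) hC
  have hz1 := ne_one_of_orderOf hq.out hzo
  have hgen : ∀ c ∈ om q (coreIn q K), c ∈ Subgroup.zpowers z := fun c hc =>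
    h3 c hc z hz hc.2.2 (pow_eq_of_orderOf hzo) hz1 (hc.2.1 z hz.1)
  refine ⟨z, hz, hzo, (h1 z hz hz1).1, (h1 z hz hz1).2, hgen, ?_⟩
  by_contra hn
  exact D.trick_false hqp hqt (coreIn_isPGroup q K) hz.1 hz.2.1 hzo (h1 z hz hz1).1 (h1 z hz hz1).2 hgen hn

theorem final (D : DataA p t P T) [hq : Fact q.Prime] [hr : Fact r.Prime] (hqr : q ≠ r) (hqp : q ≠ p)
    (hqt : q ≠ t) (hrp : r ≠ p) (hrt : r ≠ t) {K Eq Er : Subgroup G} (hK : Group.IsSolvable K)
    (hKp : ∀ y : ℕ, y.Prime → y ∣ Nat.card K → y = q ∨ y = r)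
    (hEq : Elem q Eq) (hEqK : Eq ≤ K) (hEr : Elem r Er) (hErK : Er ≤ K)
    (hC : coreIn q K ≠ ⊥) (hr2 : coreIn r K ≠ ⊥ → r ≠ 2) : False := by
  obtain ⟨z, hz, hzo, hzP, hzT, hgen, hR⟩ := D.core_facts (q := q) (r := r) hqr hqp hqt hrp hrt hEr hErK hC
  have hz1 := ne_one_of_orderOf hq.out hzo
  obtain ⟨S₀, hS₀⟩ := (show IsPGroup q (Eq.subgroupOf K) from fun e => ⟨1, Subtype.ext (Subtype.ext
    (by simpa using hEq.exp e.1.1 e.2))⟩).exists_le_sylow
  set S := (S₀ : Subgroup K).map K.subtype with hSdef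
  have hSK : S ≤ K := Subgroup.map_subtype_le _
  have hSq : IsPGroup q S := S₀.isPGroup'.map K.subtype
  have hEqS : Eq ≤ S := fun e he => ⟨⟨e, hEqK he⟩, hS₀ he, rfl⟩
  have hCS : coreIn q K ≤ S := Subgroup.map_mono (Fusion.pCore_le_sylow S₀)
  have hzS : z ∈ S := hCS hz.1
  have hom : om q (coreIn q K) = Subgroup.zpowers z := le_antisymm hgen (Subgroup.zpowers_le.2 hz)
  have hSz : S ≤ Subgroup.normalizer (Subgroup.zpowers z : Set G) :=
    hom ▸ (hSK.trans (le_normalizer_coreIn q K)).trans normalizer_om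
  have hzc : ∀ y ∈ S, Commute z y := by
    haveI := hSq.isNilpotent
    obtain ⟨x, hx, hxN, hfix⟩ := Fusion.exists_fixed_mod (P := ↥S) (N := ⊥)
      (C := (Subgroup.zpowers z).subgroupOf S) (Q := ⊤)
      (fun g _ => Subgroup.mem_normalizer_iff.2 fun w => Subgroup.mem_normalizer_iff.1 (hSz g.2) (w : G))
      (fun h => hz1 (congrArg Subtype.val (Subgroup.mem_bot.1
        (h (x := ⟨z, hzS⟩) (Subgroup.mem_zpowers z)))))
    intro y hy
    have h1 : Commute (x : G) y := congrArg Subtype.val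
      (commutatorElement_eq_one_iff_mul_comm.1 (Subgroup.mem_bot.1 (hfix ⟨y, hy⟩ (Subgroup.mem_top _))))
    exact commute_zpowers h1 (mem_zpowers_gen hq.out (pow_eq_of_orderOf hzo) hx fun e => hxN
      (Subgroup.mem_bot.2 (Subtype.ext e)))
  obtain ⟨a, ha, haz⟩ : ∃ a ∈ om q S, a ∉ Subgroup.zpowers z := by
    by_contra hcon
    refine D.trick_false hqp hqt hSq hzS hzc hzo hzP hzT (fun c hc => ?_) (hEq.not_r1 hEqS)
    by_contra h
    exact hcon ⟨c, hc, h⟩
  have hE' := elem_of_pair hq.out ha.2.2 (pow_eq_of_orderOf hzo) hz1 (hzc a ha.1).symm haz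
  have hE'K : Subgroup.zpowers z ⊔ Subgroup.zpowers a ≤ K :=
    sup_le (Subgroup.zpowers_le.2 (hSK hzS)) (Subgroup.zpowers_le.2 (hSK ha.1))
  have hCr : ∀ o ∈ coreIn r K, Commute a o := by
    by_cases hCr0 : coreIn r K = ⊥
    · intro o ho; rw [hCr0, Subgroup.mem_bot] at ho; rw [ho]; exact Commute.one_right a
    obtain ⟨w, hw, hwo, -, -, -, hRr⟩ :=
      D.core_facts (q := r) (r := q) hqr.symm hrp hrt hqp hqt hE' hE'K hCr0
    haveI := isCyclic_of_r1 (hr2 hCr0) (coreIn_isPGroup r K) hRr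
    have hab : ∀ x ∈ coreIn r K, ∀ y ∈ coreIn r K, Commute x y := fun x hx y hy =>
      congrArg Subtype.val (IsCyclic.commGroup.mul_comm (⟨x, hx⟩ : coreIn r K) ⟨y, hy⟩)
    have haN : a ∈ Subgroup.normalizer (coreIn r K : Set G) := le_normalizer_coreIn r K (hSK ha.1)
    obtain ⟨U, hU, hUmem, hUfpf, -⟩ := exists_comm_image hab ha.2.2 haN fun u hu => by
      obtain ⟨k, hk⟩ := IsPGroup.iff_orderOf.1 (coreIn_isPGroup r K) ⟨u, hu⟩
      rw [Subgroup.orderOf_mk] at hk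
      rw [hk]
      exact Nat.Coprime.pow_left _ ((Nat.coprime_primes hr.out hq.out).2 hqr.symm)
    have hU0 : U = ⊥ := by
      by_contra hne
      obtain ⟨u, hu, huo⟩ := exists_prime_order ((coreIn_isPGroup r K).to_le hU) hne
      refine ne_one_of_orderOf hr.out huo (hUfpf u hu ?_)
      obtain ⟨-, h2, -⟩ := D.omega (q := r) (r := q) hqr.symm hrp hrt hqp hqt hE'
        (hE'K.trans (le_normalizer_coreIn r K))
      exact h2 u (mem_om.2 ⟨hU hu, fun y hy => hab u (hU hu) y hy, pow_eq_of_orderOf huo⟩) a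
        (Subgroup.mem_sup_right (Subgroup.mem_zpowers a))
    intro o ho
    have h1 := hUmem o ho
    rw [hU0, Subgroup.mem_bot, mul_inv_eq_one] at h1
    exact mul_inv_eq_iff_eq_mul.1 h1
  have hmem : a ∈ coreIn q K := by
    refine ⟨⟨a, hSK ha.1⟩, mem_pCore_of_commute hK (Subtype.ext ha.2.2) (fun y o ho => ?_), rfl⟩
    haveI := Fact.mk y.2
    have ho' : (o : G) ∈ coreIn (y : ℕ) K := ⟨o, ho, rfl⟩
    apply Subtype.ext
    show a * (o : G) = (o : G) * a
    by_cases hd : (y : ℕ) ∣ Nat.card K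
    · rcases hKp y y.2 hd with h | h <;> rw [h] at ho'
      · exact ha.2.1 _ (hCS ho')
      · exact hCr _ ho'
    · rw [coreIn_eq_bot hd, Subgroup.mem_bot] at ho'
      rw [ho', one_mul, mul_one]
  exact haz (hgen a (mem_om.2 ⟨hmem, fun y hy => ha.2.1 y (hCS hy), ha.2.2⟩))

theorem contradiction (D : DataA p t P T) [hq : Fact q.Prime] [hr : Fact r.Prime] (hqr : q ≠ r) (hqp : q ≠ p)
    (hqt : q ≠ t) (hrp : r ≠ p) (hrt : r ≠ t) {K Eq Er : Subgroup G} (hK : Group.IsSolvable K)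
    (hKp : ∀ y : ℕ, y.Prime → y ∣ Nat.card K → y = q ∨ y = r)
    (hEq : Elem q Eq) (hEqK : Eq ≤ K) (hEr : Elem r Er) (hErK : Er ≤ K) : False := by
  have hKp' : ∀ y : ℕ, y.Prime → y ∣ Nat.card K → y = r ∨ y = q := fun y h1 h2 => (hKp y h1 h2).symm
  by_cases h1 : coreIn q K ≠ ⊥ ∧ (coreIn r K ≠ ⊥ → r ≠ 2)
  · exact D.final hqr hqp hqt hrp hrt hK hKp hEq hEqK hEr hErK h1.1 h1.2
  by_cases h2 : coreIn r K ≠ ⊥ ∧ (coreIn q K ≠ ⊥ → q ≠ 2)
  · exact D.final (q := r) (r := q) hqr.symm hrp hrt hqp hqt hK hKp' hEr hErK hEq hEqK h2.1 h2.2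
  have hKne : K ≠ ⊥ := fun h => by
    have := Subgroup.card_le_of_le hEqK
    rw [hEq.card, h, Subgroup.card_bot] at this
    have := Nat.one_lt_pow two_ne_zero hq.out.one_lt
    omega
  obtain ⟨y, hy, hyd, hyne⟩ := exists_coreIn_ne_bot hK hKne
  simp only [not_and, Classical.not_imp, ne_eq, not_not] at h1 h2
  rcases hKp y hy hyd with rfl | rfl
  · obtain ⟨h3, h4⟩ := h1 hyne
    exact hqr (((h2 h3).2).trans h4.symm)
  · obtain ⟨h3, h4⟩ := h2 hyne
    exact hqr (h4.trans ((h1 h3).2).symm)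

end DataA

end Cfsg.Agent.Solv.FourPrimes
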