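import Cfsg.Agent.Lib.Solv.FourPrimes.CaseA

/-!
The case of one prime in the Fitting subgroup: the cores of the smallest Hall subgroup are cyclic.
-/

set_option autoImplicit false
set_option linter.style.haveILetI false

open scoped Pointwise commutatorElement
open Cfsg

namespace Cfsg.Agent.Solv.FourPrimes

universe u

variable {G : Type u} [Group G] [Finite G]

/-- Three commuting elements, the last in a group of prime power order. -/
theorem triple_fix (hnt : NoTriple G) {p a b : ℕ} [hp : Fact p.Prime] (ha : a.Prime) (hb : b.Prime)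
    (hab : a ≠ b) (hap : a ≠ p) (hbp : b ≠ p) {X : Subgroup G} (hX : IsPGroup p X) {x y v : G}
    (hx : orderOf x = a) (hy : orderOf y = b) (hxy : Commute x y) (hv : v ∈ X) (hv1 : v ≠ 1)
    (hxv : Commute x v) (hyv : Commute y v) : False := by
  obtain ⟨k, hk⟩ := IsPGroup.iff_orderOf.1 hX ⟨v, hv⟩
  rw [Subgroup.orderOf_mk] at hk
  have hk0 : k ≠ 0 := fun h0 => hv1 (orderOf_eq_one_iff.1 (by simpa [h0] using hk))
  exact hnt a b p ha hb hp.out hab hbp hap x y _ hx hy
    (orderOf_pow_orderOf_div (orderOf_pos v).ne' (hk ▸ dvd_pow_self p hk0)) hxy (hxv.pow_right _)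
    (hyv.pow_right _)

theorem mem_normalizer_inf_centralizer {X : Subgroup G} {c d : G} (hd : d ∈ Subgroup.normalizer (X : Set G))
    (hdc : Commute d c) :
    d ∈ Subgroup.normalizer ((X ⊓ Subgroup.centralizer ({c} : Set G) : Subgroup G) : Set G) := by
  refine Solv.mem_normalizer_of_conj_smul ?_
  rw [Subgroup.smul_inf, Solv.conj_smul_of_mem_normalizer hd, Subgroup.conj_smul_eq_self_of_mem ?_]
  exact Subgroup.mem_centralizer_singleton_iff.2 hdc.eq

/-- The data of the case. -/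
structure DataB (p q : ℕ) (P Q : Subgroup G) : Prop where
  nt : NoTriple G
  hp : p.Prime
  hq : q.Prime
  ne : q ≠ p
  pn : P.Normal
  pgp : IsPGroup p P
  pne : P ≠ ⊥
  pgq : IsPGroup q Q
  rank : ¬ R1 q Q
  faith : ∀ x : G, (orderOf x).Prime → orderOf x ≠ p → (∀ v ∈ P, Commute x v) → False

namespace DataB

variable {p q : ℕ} {P Q : Subgroup G}

theorem qne (D : DataB p q P Q) : Q ≠ ⊥ := fun h => D.rank fun x hx y hy _ _ hy1 _ => by
  rw [h, Subgroup.mem_bot] at hy; exact absurd hy hy1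

theorem le_norm (D : DataB p q P Q) (X : Subgroup G) : X ≤ Subgroup.normalizer (P : Set G) :=
  haveI := D.pn
  le_top.trans (Subgroup.normalizer_eq_top (H := P)).ge

theorem faith_mem (D : DataB p q P Q) {U : Subgroup G} {a : ℕ} [ha : Fact a.Prime] (hU : IsPGroup a U)
    (hap : a ≠ p) (h : ∀ u ∈ U, ∀ v ∈ P, Commute u v) : U = ⊥ := by
  by_contra hne
  obtain ⟨u, hu, huo⟩ := exists_prime_order hU hne
  exact D.faith u (huo ▸ ha.out) (huo ▸ hap) (h u hu)

/-- An element with fixed points on `Q` and a partner of another order has none on `P`. -/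
theorem k1 (D : DataB p q P Q) {a b : ℕ} (ha : a.Prime) (hb : b.Prime) (hab : a ≠ b) (hap : a ≠ p)
    (hbp : b ≠ p) (haq : a ≠ q) (hbq : b ≠ q) {c d : G} (hc : orderOf c = a) (hd : orderOf d = b)
    (hcd : Commute c d) (hdQ : d ∈ Subgroup.normalizer (Q : Set G)) (h : Fix Q c) : ¬ Fix P c := by
  haveI := Fact.mk D.hp
  haveI := Fact.mk D.hq
  haveI := Fact.mk hb
  rintro ⟨v, hv, hv1, hcv⟩
  obtain ⟨u, hu, hu1, hcu⟩ := h
  set V := P ⊓ Subgroup.centralizer ({c} : Set G)
  set U := Q ⊓ Subgroup.centralizer ({c} : Set G)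
  have hdV := mem_normalizer_inf_centralizer (D.le_norm ⊤ (Subgroup.mem_top d)) hcd.symm
  have key := frob (V := V) (U := U) (E := Subgroup.zpowers d) (D.pgp.to_le inf_le_left)
    (fun w hw => mem_normalizer_inf_centralizer (D.le_norm ⊤ (Subgroup.mem_top w))
      (Subgroup.mem_centralizer_singleton_iff.1 hw.2 : Commute w c))
    (Subgroup.zpowers_le.2 hdV) (Subgroup.zpowers_le.2 (mem_normalizer_inf_centralizer hdQ hcd.symm))
    (fun e he he1 w hw hew => by
      by_contra hw1
      exact triple_fix D.nt ha hb hab haq hbq D.pgq hc hd hcd hw.1 hw1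
        (Subgroup.mem_centralizer_singleton_iff.1 hw.2 : Commute w c).symm
        (commute_zpowers hew (mem_zpowers_gen hb (pow_eq_of_orderOf hd) he he1)))
    (coprime_of_ne D.ne (D.pgq.to_le inf_le_left))
    (by rw [Nat.card_zpowers, hd]; exact fun h => hbp ((Nat.prime_dvd_prime_iff_eq D.hp hb).1 h).symm)
    (fun w hw hew => by
      by_contra hw1
      exact triple_fix D.nt ha hb hab hap hbp D.pgp hc hd hcd hw.1 hw1
        (Subgroup.mem_centralizer_singleton_iff.1 hw.2 : Commute w c).symm (hew d (Subgroup.mem_zpowers d)))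
  obtain ⟨u', hu', hu'o, hcu'⟩ := Fix.exists_order D.pgq ⟨u, hu, hu1, hcu⟩
  exact triple_fix D.nt ha D.hq haq hap D.ne D.pgp hc hu'o hcu' hv hv1 hcv
    (key u' ⟨hu', Subgroup.mem_centralizer_singleton_iff.2 hcu'.eq.symm⟩ v
      ⟨hv, Subgroup.mem_centralizer_singleton_iff.2 hcv.eq.symm⟩)

/-- Commuting elements of different orders do not both have fixed points on `Q`. -/
theorem nb (D : DataB p q P Q) {a b : ℕ} (ha : a.Prime) (hb : b.Prime) (hab : a ≠ b) (hap : a ≠ p)
    (hbp : b ≠ p) (haq : a ≠ q) (hbq : b ≠ q) {c d : G} (hc : orderOf c = a) (hd : orderOf d = b)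
    (hcd : Commute c d) (hcQ : c ∈ Subgroup.normalizer (Q : Set G))
    (hdQ : d ∈ Subgroup.normalizer (Q : Set G)) (h1 : Fix Q c) (h2 : Fix Q d) : False := by
  haveI := Fact.mk D.hp
  haveI := Fact.mk D.hq
  obtain ⟨u, hu, hu1, hcu⟩ := h1
  set U := Q ⊓ Subgroup.centralizer ({c} : Set G)
  have hnf : ¬ Fix P d := D.k1 hb ha hab.symm hbp hap hbq haq hd hc hcd.symm hcQ h2
  have key := frob (V := P) (U := U) (E := Subgroup.zpowers d) D.pgp (D.le_norm _) (D.le_norm _)
    (Subgroup.zpowers_le.2 (mem_normalizer_inf_centralizer hdQ hcd.symm))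
    (fun e he he1 w hw hew => by
      by_contra hw1
      exact triple_fix D.nt ha hb hab haq hbq D.pgq hc hd hcd hw.1 hw1
        (Subgroup.mem_centralizer_singleton_iff.1 hw.2 : Commute w c).symm
        (commute_zpowers hew (mem_zpowers_gen hb (pow_eq_of_orderOf hd) he he1)))
    (coprime_of_ne D.ne (D.pgq.to_le inf_le_left))
    (by rw [Nat.card_zpowers, hd]; exact fun h => hbp ((Nat.prime_dvd_prime_iff_eq D.hp hb).1 h).symm)
    (fun w hw hew => by
      by_contra hw1
      exact hnf ⟨w, hw, hw1, hew d (Subgroup.mem_zpowers d)⟩)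
  have := D.faith_mem (U := U) (D.pgq.to_le inf_le_left) D.ne key
  exact hu1 ((Subgroup.eq_bot_iff_forall _).1 this u ⟨hu, Subgroup.mem_centralizer_singleton_iff.2 hcu.eq.symm⟩)

/-- Commuting elements of different orders do not both act freely on `Q`. -/
theorem k2 (D : DataB p q P Q) {a b : ℕ} (ha : a.Prime) (hb : b.Prime) (hab : a ≠ b) (hap : a ≠ p)
    (hbp : b ≠ p) {c d : G} (hc : orderOf c = a) (hd : orderOf d = b)
    (hcd : Commute c d) (hcQ : c ∈ Subgroup.normalizer (Q : Set G))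
    (hdQ : d ∈ Subgroup.normalizer (Q : Set G)) (h1 : ¬ Fix Q c) (h2 : ¬ Fix Q d) : False := by
  haveI := Fact.mk D.hp
  haveI := Fact.mk D.hq
  set E := Subgroup.zpowers c ⊔ Subgroup.zpowers d
  have hn : Subgroup.zpowers d ≤ Subgroup.normalizer (Subgroup.zpowers c : Set G) :=
    le_trans (Subgroup.zpowers_le.2 (Subgroup.mem_centralizer_iff.2 fun y hy =>
      (commute_zpowers hcd hy).eq)) (Subgroup.centralizer_le_normalizer _)
  have key := frob (V := P) (U := Q) (E := E) D.pgp (D.le_norm _) (D.le_norm _)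
    (sup_le (Subgroup.zpowers_le.2 hcQ) (Subgroup.zpowers_le.2 hdQ))
    (fun e he he1 w hw hew => by
      by_contra hw1
      rw [← SetLike.mem_coe, Subgroup.coe_mul_of_right_le_normalizer_left _ _ hn] at he
      obtain ⟨x, hx, y, hy, rfl⟩ := Set.mem_mul.1 he
      by_cases hy1 : y = 1
      · subst hy1
        rw [mul_one] at hew he1
        exact h1 ⟨w, hw, hw1, commute_zpowers hew (mem_zpowers_gen ha (pow_eq_of_orderOf hc) hx he1)⟩
      · have hxy : Commute x y := commute_zpowers (commute_zpowers hcd.symm hy).symm hx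
        have hyb : orderOf y = b := orderOf_eq hb (by
          obtain ⟨i, rfl⟩ := Subgroup.mem_zpowers_iff.1 hy
          rw [← zpow_natCast, ← zpow_mul, mul_comm, zpow_mul, zpow_natCast, pow_eq_of_orderOf hd, one_zpow]) hy1
        have hpow : (x * y) ^ a = y ^ a := by
          obtain ⟨i, rfl⟩ := Subgroup.mem_zpowers_iff.1 hx
          rw [hxy.mul_pow, ← zpow_natCast (c ^ i), ← zpow_mul, mul_comm, zpow_mul, zpow_natCast,
            pow_eq_of_orderOf hc, one_zpow, one_mul]
        have hya : y ^ a ≠ 1 := fun h => hab ((Nat.prime_dvd_prime_iff_eq hb ha).1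
          (hyb ▸ orderOf_dvd_of_pow_eq_one h)).symm
        have hyd : y ^ a ∈ Subgroup.zpowers d := pow_mem hy _
        exact h2 ⟨w, hw, hw1, commute_zpowers (hpow ▸ hew.pow_left a)
          (mem_zpowers_gen hb (pow_eq_of_orderOf hd) hyd hya)⟩)
    (coprime_of_ne D.ne D.pgq)
    (fun h => by
      have h' := card_sup_mul_card_inf' (Subgroup.zpowers c) (Subgroup.zpowers d) hn
      rw [Nat.card_zpowers, Nat.card_zpowers, hc, hd] at h'
      rcases D.hp.dvd_mul.1 (h' ▸ h.mul_right _) with h3 | h3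
      · exact hap ((Nat.prime_dvd_prime_iff_eq D.hp ha).1 h3).symm
      · exact hbp ((Nat.prime_dvd_prime_iff_eq D.hp hb).1 h3).symm)
    (fun w hw hew => by
      by_contra hw1
      exact triple_fix D.nt ha hb hab hap hbp D.pgp hc hd hcd hw hw1
        (hew c (Subgroup.mem_sup_left (Subgroup.mem_zpowers c)))
        (hew d (Subgroup.mem_sup_right (Subgroup.mem_zpowers d))))
  exact D.qne (D.faith_mem D.pgq D.ne key)

variable {r s : ℕ} {R E : Subgroup G}

theorem no_cent (D : DataB p q P Q) [hr : Fact r.Prime] [hs : Fact s.Prime] (hrs : r ≠ s) (hrp : r ≠ p)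
    (hsp : s ≠ p) (hrq : r ≠ q) (hsq : s ≠ q) (hE : Elem s E)
    (hRQ : R ≤ Subgroup.normalizer (Q : Set G)) (hEQ : E ≤ Subgroup.normalizer (Q : Set G))
    {c : G} (hc : c ∈ R) (hco : orderOf c = r) (hall : ∀ e ∈ E, Commute e c) : False := by
  haveI := Fact.mk D.hp
  haveI := Fact.mk D.hq
  have he' : ∀ e ∈ E, e ≠ 1 → orderOf e = s := fun e he he1 => orderOf_eq hs.out (hE.exp e he) he1
  by_cases hf : Fix Q c
  · obtain ⟨e, he, he1, hfe⟩ := hE.exists_fix hEQ (coprime_of_ne hsq.symm D.pgq) D.qne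
    exact D.nb hr.out hs.out hrs hrp hsp hrq hsq hco (he' e he he1) (hall e he).symm (hRQ hc) (hEQ he) hf hfe
  · obtain ⟨e, he, he1, hfe⟩ := hE.exists_fix (D.le_norm E) (coprime_of_ne hsp.symm D.pgp) D.pne
    refine D.k1 hs.out hr.out hrs.symm hsp hrp hsq hrq (he' e he he1) hco (hall e he) (hRQ hc) ?_ hfe
    by_contra hn
    exact D.k2 hr.out hs.out hrs hrp hsp hco (he' e he he1) (hall e he).symm (hRQ hc) (hEQ he) hf hn

theorem rank_fixed (D : DataB p q P Q) [hr : Fact r.Prime] [hs : Fact s.Prime] (hrs : r ≠ s) (hrp : r ≠ p)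
    (hsp : s ≠ p) (hrq : r ≠ q) (hsq : s ≠ q)
    (hRQ : R ≤ Subgroup.normalizer (Q : Set G)) {d : G} (hdQ : d ∈ Subgroup.normalizer (Q : Set G))
    (hd : orderOf d = s) : R1 r (R ⊓ Subgroup.centralizer ({d} : Set G) : Subgroup G) := by
  haveI := Fact.mk D.hp
  haveI := Fact.mk D.hq
  have hcomm : ∀ {c : G}, c ∈ R ⊓ Subgroup.centralizer ({d} : Set G) → Commute c d := fun hc =>
    Subgroup.mem_centralizer_singleton_iff.1 hc.2
  by_cases hf : Fix Q d
  · exact r1_of_fpf D.qne (coprime_of_ne hrq.symm D.pgq) (inf_le_left.trans hRQ) fun c hc hco hfc =>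
      D.nb hr.out hs.out hrs hrp hsp hrq hsq hco hd (hcomm hc) (hRQ hc.1) hdQ hfc hf
  · refine r1_of_fpf D.pne (coprime_of_ne hrp.symm D.pgp) (D.le_norm _) fun c hc hco =>
      D.k1 hr.out hs.out hrs hrp hsp hrq hsq hco hd (hcomm hc) hdQ ?_
    by_contra hn
    exact D.k2 hr.out hs.out hrs hrp hsp hco hd (hcomm hc) (hRQ hc.1) hdQ hn hf

/-- The cores under `Q` are cyclic. -/
theorem cyclic (D : DataB p q P Q) [hr : Fact r.Prime] [hs : Fact s.Prime] (hrs : r ≠ s) (hrp : r ≠ p)
    (hsp : s ≠ p) (hrq : r ≠ q) (hsq : s ≠ q) (hR : IsPGroup r R) (hE : Elem s E)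
    (hRQ : R ≤ Subgroup.normalizer (Q : Set G)) (hEQ : E ≤ Subgroup.normalizer (Q : Set G))
    (hER : E ≤ Subgroup.normalizer (R : Set G)) : IsCyclic R := by
  haveI := Fact.mk D.hp
  haveI := Fact.mk D.hq
  have he' : ∀ e ∈ E, e ≠ 1 → orderOf e = s := fun e he he1 => orderOf_eq hs.out (hE.exp e he) he1
  have hR1 : ∀ e ∈ E, e ≠ 1 → R1 r (R ⊓ Subgroup.centralizer ({e} : Set G) : Subgroup G) := fun e he he1 =>
    D.rank_fixed hrs hrp hsp hrq hsq hRQ (hEQ he) (he' e he he1)
  by_cases hbot : R = ⊥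
  · subst hbot; infer_instance
  have hr2 : r ≠ 2 := by
    rintro rfl
    set W := om 2 R
    obtain ⟨z, hz, hzo⟩ := exists_mem_om hR hbot
    have hW : W ≠ ⊥ := fun h => ne_one_of_orderOf hr.out hzo ((Subgroup.eq_bot_iff_forall _).1 h z hz)
    obtain ⟨d, hd, hd1, w, hw, hw1, hdw⟩ := hE.exists_fix (hER.trans normalizer_om)
      (coprime_of_ne hrs (hR.to_le fun x hx => (mem_om.1 hx).1)) hW
    have hwo := orderOf_eq hr.out hw.2.2 hw1
    refine D.no_cent hrs hrp hsp hrq hsq hE hRQ hEQ hw.1 hwo fun f hf => ?_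
    set x := f * w * f⁻¹ with hx
    have hxW : x ∈ W := (Subgroup.mem_normalizer_iff.1 ((hER.trans normalizer_om) hf) w).1 hw
    have hx1 : x ≠ 1 := fun h => hw1 (conj_eq_one_iff.1 h)
    have hdx : Commute x d :=
      (((hE.comm f hf d hd).mul_left hdw.symm).mul_left (hE.comm f hf d hd).inv_left)
    obtain ⟨i, hi⟩ := mem_powers_iff_mem_zpowers.2
      (hR1 d hd hd1 x ⟨hxW.1, Subgroup.mem_centralizer_singleton_iff.2 hdx.eq⟩ w
        ⟨hw.1, Subgroup.mem_centralizer_singleton_iff.2 hdw.eq.symm⟩ hxW.2.2 hw.2.2 hw1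
        (hxW.2.1 w hw.1))
    replace hi : w ^ i = x := hi
    have hi2 : i % 2 = 1 := by
      rcases Nat.mod_two_eq_zero_or_one i with h | h
      · exact absurd (by rw [← hi, ← pow_mod_orderOf, hwo, h, pow_zero]) hx1
      · exact h
    rw [← pow_mod_orderOf, hwo, hi2, pow_one] at hi
    exact (mul_inv_eq_iff_eq_mul.1 hi.symm : f * w = w * f)
  by_cases hall : ∀ e ∈ E, e ≠ 1 → ∀ c ∈ R, Commute e c → ∀ u ∈ Q, Commute c u
  · -- `R` centralises `Q`
    have hRC : R ≤ Subgroup.centralizer (Q : Set G) := hE.gen hER (coprime_of_ne hrs hR)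
      fun e he he1 c hc hec => Subgroup.mem_centralizer_iff.2 fun u hu => (hall e he he1 c hc hec u hu).eq.symm
    refine isCyclic_of_r1 hr2 hR (r1_of_fpf D.pne (coprime_of_ne hrp.symm D.pgp) (D.le_norm _) ?_)
    rintro c hc hco ⟨v, hv, hv1, hcv⟩
    obtain ⟨Eq, hEqQ, hEq⟩ := exists_elem D.hq D.rank
    have hcq : ∀ u ∈ Q, Commute u c := fun u hu => Subgroup.mem_centralizer_iff.1 (hRC hc) u hu
    set V := P ⊓ Subgroup.centralizer ({c} : Set G)
    have hV : V ≠ ⊥ := fun h => hv1 ((Subgroup.eq_bot_iff_forall _).1 h v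
      ⟨hv, Subgroup.mem_centralizer_singleton_iff.2 hcv.eq.symm⟩)
    obtain ⟨f, hf, hf1, w, hw, hw1, hfw⟩ := hEq.exists_fix
      (fun f hf => mem_normalizer_inf_centralizer (D.le_norm ⊤ (Subgroup.mem_top f)) (hcq f (hEqQ hf)))
      (coprime_of_ne D.ne.symm (D.pgp.to_le inf_le_left)) hV
    exact triple_fix D.nt hr.out D.hq hrq hrp D.ne D.pgp hco
      (orderOf_eq D.hq (hEq.exp f hf) hf1) (hcq f (hEqQ hf)).symm hw.1 hw1
      (Subgroup.mem_centralizer_singleton_iff.1 hw.2 : Commute w c).symm hfw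
  · simp only [not_forall] at hall
    obtain ⟨d, hd, hd1, c, hc, hdc, u, hu, hcu⟩ := hall
    set X := R ⊓ Subgroup.centralizer ({d} : Set G) with hX
    have hXr : IsPGroup r X := hR.to_le inf_le_left
    have hXc : IsCyclic X := isCyclic_of_r1 hr2 hXr (hR1 d hd hd1)
    have hcX : c ∈ X := ⟨hc, Subgroup.mem_centralizer_singleton_iff.2 hdc.eq.symm⟩
    have hRX : R ≤ X := by
      refine hE.gen hER (coprime_of_ne hrs hR) fun f hf hf1 x hx hfx => ?_
      refine ⟨hx, Subgroup.mem_centralizer_singleton_iff.2 ?_⟩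
      by_cases hfd : f ∈ Subgroup.zpowers d
      · exact (commute_zpowers hfx (mem_zpowers_gen hs.out (hE.exp d hd) hfd hf1)).eq.symm
      by_cases hx1 : x = 1
      · rw [hx1, one_mul, mul_one]
      exfalso
      have hfn : d ∉ Subgroup.zpowers f := fun h => hfd (mem_zpowers_gen hs.out (hE.exp f hf) h hd1)
      -- `f` acts freely on `X`
      have hfree : ∀ g ∈ Subgroup.zpowers f, g ≠ 1 → ∀ y ∈ X, Commute g y → y = 1 := by
        intro g hg hg1 y hy hgy
        by_contra hy1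
        obtain ⟨k, hk⟩ := IsPGroup.iff_orderOf.1 hXr ⟨y, hy⟩
        rw [Subgroup.orderOf_mk] at hk
        have hk0 : k ≠ 0 := fun h0 => hy1 (orderOf_eq_one_iff.1 (by simpa [h0] using hk))
        refine D.no_cent hrs hrp hsp hrq hsq hE hRQ hEQ (pow_mem hy.1 _)
          (orderOf_pow_orderOf_div (orderOf_pos y).ne' (hk ▸ dvd_pow_self r hk0)) fun e he =>
          (hE.commute_all hd hd1 hf hfd
            (Subgroup.mem_centralizer_singleton_iff.1 hy.2 : Commute y d).symm
            (commute_zpowers hgy (mem_zpowers_gen hs.out (hE.exp f hf) hg hg1)) e he).pow_right _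
      have hfX : f ∈ Subgroup.normalizer (X : Set G) := mem_normalizer_inf_centralizer (hER hf) (hE.comm f hf d hd)
      have hfs : ∀ {a : ℕ}, a.Prime → a ≠ s → ¬ a ∣ Nat.card (Subgroup.zpowers f) := fun ha has h => by
        rw [Nat.card_zpowers, he' f hf hf1] at h
        exact has ((Nat.prime_dvd_prime_iff_eq ha hs.out).1 h)
      have hfQ : Fix Q f := by
        by_contra hn
        exact hcu (frob D.pgq (inf_le_left.trans hRQ) (Subgroup.zpowers_le.2 (hEQ hf))
          (Subgroup.zpowers_le.2 hfX) hfree (coprime_of_ne hrq hXr) (hfs D.hq hsq.symm)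
          (fun v hv hev => by
            by_contra hv1
            exact hn ⟨v, hv, hv1, hev f (Subgroup.mem_zpowers f)⟩) c hcX u hu)
      have hfP : Fix P f := by
        by_contra hn
        have hX0 := D.faith_mem hXr hrp (frob D.pgp (D.le_norm _) (D.le_norm _)
          (Subgroup.zpowers_le.2 hfX) hfree (coprime_of_ne hrp hXr) (hfs D.hp hsp.symm)
          (fun v hv hev => by
            by_contra hv1
            exact hn ⟨v, hv, hv1, hev f (Subgroup.mem_zpowers f)⟩))
        exact hcu (by rw [(Subgroup.eq_bot_iff_forall _).1 hX0 c hcX]; exact Commute.one_left u)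
      obtain ⟨y, hy, hyo, hfy⟩ := Fix.exists_order hR ⟨x, hx, hx1, hfx⟩
      exact D.k1 hs.out hr.out hrs.symm hsp hrp hsq hrq (he' f hf hf1) hyo hfy (hRQ hy) hfQ hfP
    rw [le_antisymm hRX inf_le_left]
    exact hXc

end DataB

end Cfsg.Agent.Solv.FourPrimes
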