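import Cfsg.Agent.Lib.Solv.FourPrimes.CaseB

/-!
Four primes, pairwise but never triply joined: such a group is not solvable.
-/

set_option autoImplicit false
set_option linter.style.haveILetI false

open scoped Pointwise commutatorElement
open Cfsg

namespace Cfsg.Agent.Solv.FourPrimes

universe u

variable {G : Type u} [Group G] [Finite G]

omit [Finite G] in
theorem eq_of_mem_zpowers_two [Finite G] {z w : G} (hz : orderOf z = 2) (hw : w ∈ Subgroup.zpowers z)
    (hw1 : w ≠ 1) : w = z := by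
  obtain ⟨i, rfl⟩ := mem_powers_iff_mem_zpowers.2 hw
  simp only at hw1 ⊢
  rw [← pow_mod_orderOf, hz] at hw1 ⊢
  rcases Nat.mod_two_eq_zero_or_one i with h | h
  · exact absurd (by rw [h, pow_zero]) hw1
  · rw [h, pow_one]

theorem elem_primes {x : ℕ} (hx : x.Prime) {E : Subgroup G} (hE : Elem x E) (y : ℕ) (hy : y.Prime)
    (hd : y ∣ Nat.card E) : y = x :=
  (Nat.prime_dvd_prime_iff_eq hy hx).1 (hy.dvd_of_dvd_pow (hE.card ▸ hd))

/-- A solvable group with cyclic cores has no elementary subgroup of rank two for its largest prime. -/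
theorem cyclic_cores_false {x : ℕ} [hx : Fact x.Prime] {K E : Subgroup G} (hK : Group.IsSolvable K)
    (hmax : ∀ y : ℕ, y.Prime → y ∣ Nat.card K → y ≤ x) (hE : Elem x E) (hEK : E ≤ K)
    (hcyc : ∀ y : ℕ, y.Prime → y ∣ Nat.card K → IsCyclic (coreIn y K)) : False := by
  obtain ⟨S, hS⟩ := (show IsPGroup x (E.subgroupOf K) from fun e => ⟨1, Subtype.ext (Subtype.ext
    (by simpa using hE.exp e.1.1 e.2))⟩).exists_le_sylow
  have hc : ∀ y : ℕ, y.Prime → IsCyclic (pCore y ↥K) := fun y hy => by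
    haveI := Fact.mk hy
    let e := Subgroup.equivMapOfInjective (pCore y ↥K) K.subtype K.subtype_injective
    haveI : IsCyclic ((pCore y ↥K).map K.subtype : Subgroup G) := by
      show IsCyclic (coreIn y K)
      by_cases hd : y ∣ Nat.card K
      · exact hcyc y hy hd
      · rw [coreIn_eq_bot hd]; infer_instance
    exact isCyclic_of_injective e.toMonoidHom e.injective
  haveI := sylow_cyclic hK hmax hc S
  haveI : IsCyclic (E.subgroupOf K) :=
    isCyclic_of_injective (Subgroup.inclusion hS) (Subgroup.inclusion_injective hS)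
  obtain ⟨⟨⟨e, heK⟩, he⟩, hgen⟩ := IsCyclic.exists_generator (α := E.subgroupOf K)
  refine hE.not_le_zpowers e he fun w hw => ?_
  obtain ⟨i, hi⟩ := Subgroup.mem_zpowers_iff.1 (hgen ⟨⟨w, hEK hw⟩, hw⟩)
  refine Subgroup.mem_zpowers_iff.2 ⟨i, ?_⟩
  exact congrArg (fun t : ↥(E.subgroupOf K) => ((t : K) : G)) hi

theorem Hyp.core_mem (y : ℕ) [Fact y.Prime] (h : pCore y G ≠ ⊥) : y ∈ (Nat.card G).primeFactors := by
  obtain ⟨v, hv, hvo⟩ := exists_prime_order (pCore_isPGroup (G := G) y) h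
  exact Nat.mem_primeFactors.2 ⟨Fact.out, hvo ▸ orderOf_dvd_natCard v, Nat.card_pos.ne'⟩

theorem Hyp.false (hG : Hyp G) : False := by
  classical
  set σ := (Nat.card G).primeFactors with hσdef
  haveI := hG.solv
  haveI : Nontrivial G := by
    by_contra h
    rw [not_nontrivial_iff_subsingleton] at h
    have := hG.four
    rw [Nat.card_unique] at this
    simp at this
  obtain ⟨p, hp, hP⟩ : ∃ p, p.Prime ∧ pCore p G ≠ ⊥ := by
    by_contra hcon
    refine fitting_ne_bot (G := G) hG.solv ?_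
    rw [fitting_eq_iSup_pCore]
    refine le_bot_iff.1 (iSup_le fun y => ?_)
    by_contra h
    exact hcon ⟨y, y.2, fun e => h e.le⟩
  haveI := Fact.mk hp
  have hpσ := Hyp.core_mem p hP
  have hpg : ∀ (y : ℕ) [Fact y.Prime], IsPGroup y (pCore y G) := fun y _ => pCore_isPGroup y
  -- an element of prime order centralising all cores lies in its own
  have faith0 : ∀ x : G, (orderOf x).Prime → pCore (orderOf x) G = ⊥ →
      (∀ y : Nat.Primes, ∀ o ∈ pCore (y : ℕ) G, Commute x o) → False := by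
    intro x hx hb hc
    haveI := Fact.mk hx
    have h := mem_pCore_of_commute hG.solv (pow_orderOf_eq_one x) hc
    rw [hb, Subgroup.mem_bot] at h
    rw [h, orderOf_one] at hx
    exact Nat.not_prime_one hx
  by_cases ht : ∃ t, t.Prime ∧ t ≠ p ∧ pCore t G ≠ ⊥
  · obtain ⟨t, ht, htp, hT⟩ := ht
    haveI := Fact.mk ht
    have htσ := Hyp.core_mem t hT
    have hcc : ∀ {a b : ℕ} [Fact a.Prime] [Fact b.Prime], a ≠ b → ∀ v ∈ pCore a G, ∀ w ∈ pCore b G,
        Commute v w := by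
      intro a b ha hb hab v hv w hw
      refine Subgroup.commute_of_normal_of_disjoint _ _ (pCore_normal a) (pCore_normal b) ?_ v w hv hw
      rw [disjoint_iff]
      refine coprime_inf ?_
      obtain ⟨i, hi⟩ := IsPGroup.iff_card.1 (hpg a)
      obtain ⟨j, hj⟩ := IsPGroup.iff_card.1 (hpg b)
      rw [hi, hj]
      exact Nat.coprime_pow_primes _ _ ha.out hb.out hab
    have hother : ∀ y : ℕ, y.Prime → y ≠ p → y ≠ t → pCore y G = ⊥ := by
      intro y hy hyp hyt
      haveI := Fact.mk hy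
      by_contra hY
      obtain ⟨a, ha, hao⟩ := exists_prime_order (hpg p) hP
      obtain ⟨b, hb, hbo⟩ := exists_prime_order (hpg t) hT
      obtain ⟨c, hc, hco⟩ := exists_prime_order (hpg y) hY
      exact hG.nt p t y hp ht hy htp.symm hyt.symm hyp.symm a b c hao hbo hco
        (hcc htp.symm a ha b hb) (hcc hyp.symm a ha c hc) (hcc hyt.symm b hb c hc)
    have D : DataA p t (pCore p G) (pCore t G) :=
      ⟨hG.nt, hp, ht, htp.symm, pCore_normal p, pCore_normal t, hpg p, hpg t, hP, hT,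
        fun x hx h1 h2 h3 h4 => faith0 x hx (hother _ hx h1 h2) fun y o ho => by
          by_cases hyp : (y : ℕ) = p
          · rw [hyp] at ho; exact h3 o ho
          by_cases hyt : (y : ℕ) = t
          · rw [hyt] at ho; exact h4 o ho
          rw [hother y y.2 hyp hyt, Subgroup.mem_bot] at ho
          rw [ho]; exact Commute.one_right x⟩
    have hcard : ((σ.erase p).erase t).card = 2 := by
      rw [Finset.card_erase_of_mem (Finset.mem_erase.2 ⟨htp, htσ⟩), Finset.card_erase_of_mem hpσ,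
        hG.four]
    obtain ⟨q, r, hqr, hqr'⟩ := Finset.card_eq_two.1 hcard
    obtain ⟨hqt, hqp, hqσ⟩ : q ≠ t ∧ q ≠ p ∧ q ∈ σ := by
      have h : q ∈ (σ.erase p).erase t := hqr' ▸ Finset.mem_insert_self _ _
      simpa [Finset.mem_erase] using h
    obtain ⟨hrt, hrp, hrσ⟩ : r ≠ t ∧ r ≠ p ∧ r ∈ σ := by
      have h : r ∈ (σ.erase p).erase t := hqr' ▸ Finset.mem_insert_of_mem (Finset.mem_singleton_self _)
      simpa [Finset.mem_erase] using h
    have hq := Nat.prime_of_mem_primeFactors hqσ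
    have hr := Nat.prime_of_mem_primeFactors hrσ
    haveI := Fact.mk hq
    haveI := Fact.mk hr
    obtain ⟨K, hK, hKc⟩ := exists_hall hG.solv ({q, r} : Set ℕ)
    obtain ⟨Eq, hEq⟩ := hG.exists_elem hqσ
    obtain ⟨Er, hEr⟩ := hG.exists_elem hrσ
    obtain ⟨g₁, hg₁⟩ := hKc Eq fun y hy hd => Or.inl (elem_primes hq hEq y hy hd)
    obtain ⟨g₂, hg₂⟩ := hKc Er fun y hy hd => Or.inr (elem_primes hr hEr y hy hd)
    exact D.contradiction hqr hqp hqt hrp hrt inferInstance (fun y hy hd => hK y hy hd)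
      (hEq.smul g₁) hg₁ (hEr.smul g₂) hg₂
  have hother : ∀ y : ℕ, y.Prime → y ≠ p → pCore y G = ⊥ := fun y hy hyp => by
    by_contra h
    exact ht ⟨y, hy, hyp, h⟩
  set τ := σ.erase p with hτdef
  have hτ3 : τ.card = 3 := by rw [hτdef, Finset.card_erase_of_mem hpσ, hG.four]
  have hτp : ∀ y ∈ τ, y.Prime := fun y hy => Nat.prime_of_mem_primeFactors (Finset.mem_erase.1 hy).2
  obtain ⟨H, hH, hHc⟩ := exists_hall hG.solv (τ : Set ℕ)
  have hElemH : ∀ y ∈ τ, ∃ E : Subgroup G, Elem y E ∧ E ≤ H := fun y hy => by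
    obtain ⟨E, hE⟩ := hG.exists_elem (Finset.mem_erase.1 hy).2
    obtain ⟨g, hg⟩ := hHc E fun z hz hd => by rw [elem_primes (hτp y hy) hE z hz hd]; exact hy
    exact ⟨_, hE.smul g, hg⟩
  obtain ⟨q, hqτ, hQ⟩ : ∃ q ∈ τ, ¬ R1 q (coreIn q H) := by
    by_contra hcon
    have hR : ∀ y ∈ τ, R1 y (coreIn y H) := fun y hy => by
      by_contra h
      exact hcon ⟨y, hy, h⟩
    haveI : Fact (Nat.Prime 2) := ⟨Nat.prime_two⟩
    by_cases h2 : coreIn 2 H = ⊥
    · obtain ⟨x, hxτ, hxmax⟩ := τ.exists_max_image id (Finset.card_pos.1 (by omega))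
      haveI := Fact.mk (hτp x hxτ)
      obtain ⟨E, hE, hEH⟩ := hElemH x hxτ
      refine cyclic_cores_false (x := x) (K := H) inferInstance (fun y hy hd => hxmax y (hH y hy hd)) hE hEH
        fun y hy hd => ?_
      haveI := Fact.mk hy
      by_cases hy2 : y = 2
      · subst hy2; rw [h2]; infer_instance
      · exact isCyclic_of_r1 hy2 (coreIn_isPGroup y H) (hR y (hH y hy hd))
    · have h2τ : 2 ∈ τ := hH 2 Nat.prime_two (by
        by_contra h
        exact h2 (coreIn_eq_bot h))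
      obtain ⟨z, hz, hzo⟩ := exists_mem_om (coreIn_isPGroup 2 H) h2
      have hz1 := ne_one_of_orderOf Nat.prime_two hzo
      have hcen : ∀ h ∈ H, Commute h z := by
        intro h hh
        have hm : h * z * h⁻¹ ∈ om 2 (coreIn 2 H) :=
          (Subgroup.mem_normalizer_iff.1 (((le_normalizer_coreIn 2 H).trans normalizer_om) hh) z).1 hz
        have h1 := hR 2 h2τ _ hm.1 z hz.1 hm.2.2 hz.2.2 hz1 (hm.2.1 z hz.1)
        exact mul_inv_eq_iff_eq_mul.1 (eq_of_mem_zpowers_two hzo h1 fun e => hz1 (conj_eq_one_iff.1 e))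
      have hc2 : (τ.erase 2).card = 2 := by rw [Finset.card_erase_of_mem h2τ, hτ3]
      obtain ⟨a, b, hab, hab'⟩ := Finset.card_eq_two.1 hc2
      obtain ⟨ha2, haτ⟩ := Finset.mem_erase.1 (show a ∈ τ.erase 2 from hab' ▸ Finset.mem_insert_self _ _)
      obtain ⟨hb2, hbτ⟩ := Finset.mem_erase.1
        (show b ∈ τ.erase 2 from hab' ▸ Finset.mem_insert_of_mem (Finset.mem_singleton_self _))
      have hap := hτp a haτ
      have hbp := hτp b hbτ
      obtain ⟨x, y, hx, hy, hxy⟩ := hG.edge a (Finset.mem_erase.1 haτ).2 b (Finset.mem_erase.1 hbτ).2 hab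
      have hord : orderOf (x * y) = a * b := by
        rw [hxy.orderOf_mul_eq_mul_orderOf_of_coprime (by rw [hx, hy]; exact (Nat.coprime_primes hap hbp).2 hab),
          hx, hy]
      obtain ⟨g, hg⟩ := hHc (Subgroup.zpowers (x * y)) fun z hz hd => by
        rw [Nat.card_zpowers, hord] at hd
        rcases hz.dvd_mul.1 hd with h | h
        · rw [(Nat.prime_dvd_prime_iff_eq hz hap).1 h]; exact haτ
        · rw [(Nat.prime_dvd_prime_iff_eq hz hbp).1 h]; exact hbτ
      have hsub : ∀ {a b : ℕ} {x y : G}, a.Prime → b.Prime → a ≠ b → orderOf x = a → orderOf y = b →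
          Commute x y → x ∈ Subgroup.zpowers (x * y) := by
        intro a b x y ha hb hab hx hy hc
        have h1 : (x * y) ^ b = x ^ b := by rw [hc.mul_pow, pow_eq_of_orderOf hy, mul_one]
        refine Subgroup.zpowers_le.2 (h1 ▸ Subgroup.pow_mem _ (Subgroup.mem_zpowers _) b)
          (mem_zpowers_gen ha (pow_eq_of_orderOf hx) (Subgroup.pow_mem _ (Subgroup.mem_zpowers x) b) fun e => ?_)
        exact hab ((Nat.prime_dvd_prime_iff_eq ha hb).1 (hx ▸ orderOf_dvd_of_pow_eq_one e))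
      have hxH : MulAut.conj g x ∈ H := hg (Subgroup.smul_mem_pointwise_smul _ _ _ (hsub hap hbp hab hx hy hxy))
      have hyH : MulAut.conj g y ∈ H := hg (Subgroup.smul_mem_pointwise_smul _ _ _
        (hxy.eq.symm ▸ hsub hbp hap hab.symm hy hx hxy.symm))
      exact hG.nt 2 a b Nat.prime_two hap hbp ha2.symm hab hb2.symm z (MulAut.conj g x) (MulAut.conj g y) hzo
        (by rw [MulEquiv.orderOf_eq, hx]) (by rw [MulEquiv.orderOf_eq, hy]) (hcen _ hxH).symm
        (hcen _ hyH).symm (hxy.map (MulAut.conj g).toMonoidHom)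
  have hq := hτp q hqτ
  haveI := Fact.mk hq
  obtain ⟨hqp, hqσ⟩ := Finset.mem_erase.1 hqτ
  have D : DataB p q (pCore p G) (coreIn q H) :=
    ⟨hG.nt, hp, hq, hqp, pCore_normal p, hpg p, hP, coreIn_isPGroup q H, hQ,
      fun x hx h1 h2 => faith0 x hx (hother _ hx h1) fun y o ho => by
        by_cases hyp : (y : ℕ) = p
        · rw [hyp] at ho; exact h2 o ho
        rw [hother y y.2 hyp, Subgroup.mem_bot] at ho
        rw [ho]; exact Commute.one_right x⟩
  obtain ⟨r, s, hrs', hlt⟩ : ∃ r s, τ.erase q = {r, s} ∧ r < s := by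
    obtain ⟨a, b, hab, h⟩ := Finset.card_eq_two.1
      (show (τ.erase q).card = 2 by rw [Finset.card_erase_of_mem hqτ, hτ3])
    rcases lt_or_gt_of_ne hab with h' | h'
    · exact ⟨a, b, h, h'⟩
    · exact ⟨b, a, h.trans (Finset.pair_comm a b), h'⟩
  have hrs : r ≠ s := hlt.ne
  obtain ⟨hrq, hrτ⟩ := Finset.mem_erase.1 (show r ∈ τ.erase q from hrs' ▸ Finset.mem_insert_self _ _)
  obtain ⟨hsq, hsτ⟩ := Finset.mem_erase.1
    (show s ∈ τ.erase q from hrs' ▸ Finset.mem_insert_of_mem (Finset.mem_singleton_self _))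
  haveI := Fact.mk (hτp r hrτ)
  haveI := Fact.mk (hτp s hsτ)
  obtain ⟨K₀, hK₀, hK₀c⟩ := exists_hall hG.solv ({r, s} : Set ℕ)
  obtain ⟨g, hg⟩ := hHc K₀ fun y hy hd => by
    rcases hK₀ y hy hd with h | h
    · rw [h]; exact hrτ
    · rw [Set.mem_singleton_iff.1 h]; exact hsτ
  set K := MulAut.conj g • K₀ with hKdef
  have hK : ∀ y : ℕ, y.Prime → y ∣ Nat.card K → y = r ∨ y = s := fun y hy hd => by
    rw [hKdef, card_conj_smul] at hd
    exact hK₀ y hy hd
  have hElemK : ∀ y, y = r ∨ y = s → ∃ E : Subgroup G, Elem y E ∧ E ≤ K := fun y hy => by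
    have hyσ : y ∈ σ := by
      rcases hy with rfl | rfl
      exacts [(Finset.mem_erase.1 hrτ).2, (Finset.mem_erase.1 hsτ).2]
    obtain ⟨E, hE⟩ := hG.exists_elem hyσ
    obtain ⟨g₀, hg₀⟩ := hK₀c E fun z hz hd => by
      rw [elem_primes (Nat.prime_of_mem_primeFactors hyσ) hE z hz hd]; exact hy
    exact ⟨_, (hE.smul g₀).smul g, Subgroup.pointwise_smul_le_pointwise_smul_iff.2 hg₀⟩
  obtain ⟨Er, hEr, hErK⟩ := hElemK r (Or.inl rfl)
  obtain ⟨Es, hEs, hEsK⟩ := hElemK s (Or.inr rfl)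
  have hKQ : K ≤ Subgroup.normalizer (coreIn q H : Set G) := hg.trans (le_normalizer_coreIn q H)
  refine cyclic_cores_false (K := K) inferInstance (fun y hy hd => ?_) hEs hEsK fun y hy hd => ?_
  · rcases hK y hy hd with h | h <;> omega
  · rcases hK y hy hd with h | h <;> subst h
    · exact D.cyclic hrs (Finset.mem_erase.1 hrτ).1 (Finset.mem_erase.1 hsτ).1 hrq hsq (coreIn_isPGroup y K)
        hEs ((coreIn_le y K).trans hKQ) (hEsK.trans hKQ) (hEsK.trans (le_normalizer_coreIn y K))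
    · exact D.cyclic hrs.symm (Finset.mem_erase.1 hsτ).1 (Finset.mem_erase.1 hrτ).1 hsq hrq (coreIn_isPGroup y K)
        hEr ((coreIn_le y K).trans hKQ) (hErK.trans hKQ) (hErK.trans (le_normalizer_coreIn y K))

theorem not_solvable_of_four {σ : Finset ℕ} (hσ : σ.card = 4) (hprime : ∀ p ∈ σ, p.Prime)
    (h2 : ∀ p ∈ σ, ∀ q ∈ σ, p ≠ q → ∃ g : G, orderOf g = p * q)
    (h3 : ∀ p ∈ σ, ∀ q ∈ σ, ∀ r ∈ σ, p ≠ q → q ≠ r → p ≠ r → ∀ g : G, orderOf g ≠ p * q * r) :
    ¬ Group.IsSolvable G := by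
  intro hsol
  haveI := hsol
  obtain ⟨H, hH, hHc⟩ := exists_hall hsol (σ : Set ℕ)
  have hedge : ∀ p ∈ σ, ∀ q ∈ σ, p ≠ q → ∃ g : H, orderOf g = p * q := by
    intro p hp q hq hpq
    obtain ⟨g, hg⟩ := h2 p hp q hq hpq
    obtain ⟨k, hk⟩ := hHc (Subgroup.zpowers g) fun z hz hd => by
      rw [Nat.card_zpowers, hg] at hd
      rcases hz.dvd_mul.1 hd with h | h
      · rw [(Nat.prime_dvd_prime_iff_eq hz (hprime p hp)).1 h]; exact hp
      · rw [(Nat.prime_dvd_prime_iff_eq hz (hprime q hq)).1 h]; exact hq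
    exact ⟨⟨MulAut.conj k g, hk (Subgroup.smul_mem_pointwise_smul _ _ _ (Subgroup.mem_zpowers g))⟩,
      by rw [Subgroup.orderOf_mk, MulEquiv.orderOf_eq, hg]⟩
  have hpf : (Nat.card H).primeFactors = σ := by
    ext p
    rw [Nat.mem_primeFactors]
    refine ⟨fun h => hH p h.1 h.2.1, fun hp => ⟨hprime p hp, ?_, Nat.card_pos.ne'⟩⟩
    obtain ⟨q, hq, hqp⟩ := Finset.exists_mem_ne (by omega : 1 < σ.card) p
    obtain ⟨g, hg⟩ := hedge p hp q hq hqp.symm
    exact (dvd_mul_right p q).trans (hg ▸ orderOf_dvd_natCard g)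
  refine Hyp.false (G := ↥H) ⟨inferInstance, ?_, by rw [hpf, hσ], ?_⟩
  · intro p q r hp hq hr hpq hqr hpr x y z hx hy hz hxy hxz hyz
    have hmem : ∀ {p : ℕ} {x : H}, p.Prime → orderOf x = p → p ∈ σ := fun {p x} hp hx =>
      hH p hp (hx ▸ orderOf_dvd_natCard x)
    refine h3 p (hmem hp hx) q (hmem hq hy) r (hmem hr hz) hpq hqr hpr ((x * y * z : H) : G) ?_
    have h1 : orderOf (x * y) = p * q := by
      rw [hxy.orderOf_mul_eq_mul_orderOf_of_coprime (by rw [hx, hy]; exact (Nat.coprime_primes hp hq).2 hpq),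
        hx, hy]
    rw [Subgroup.orderOf_coe, (hxz.mul_left hyz).orderOf_mul_eq_mul_orderOf_of_coprime, h1, hz]
    rw [h1, hz]
    exact Nat.Coprime.mul_left ((Nat.coprime_primes hp hr).2 hpr) ((Nat.coprime_primes hq hr).2 hqr)
  · intro p hp q hq hpq
    rw [hpf] at hp hq
    obtain ⟨g, hg⟩ := hedge p hp q hq hpq
    exact ⟨g ^ (orderOf g / p), g ^ (orderOf g / q),
      orderOf_pow_orderOf_div (orderOf_pos g).ne' (hg ▸ dvd_mul_right p q),
      orderOf_pow_orderOf_div (orderOf_pos g).ne' (hg ▸ dvd_mul_left q p),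
      Commute.pow_pow (Commute.refl g) _ _⟩

end Cfsg.Agent.Solv.FourPrimes
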