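import Cfsg.Agent.Lib.Solv.FourPrimes.Basic
import Cfsg.Agent.Lib.Solv.ThreePrimeLemma
import Cfsg.Agent.Lib.Fusion.Cores
import Mathlib.GroupTheory.SpecificGroups.Cyclic

/-!
Every Sylow subgroup has rank two; a solvable group with cyclic cores has a cyclic Sylow subgroup
for its largest prime.
-/

set_option autoImplicit false
set_option linter.style.haveILetI false

open scoped Pointwise commutatorElement
open Cfsg

namespace Cfsg.Agent.Solv.FourPrimes

universe u

/-- A solvable group whose order has four primes, any two joined, no three joined. -/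
structure Hyp (G : Type u) [Group G] [Finite G] : Prop where
  solv : Group.IsSolvable G
  nt : NoTriple G
  four : (Nat.card G).primeFactors.card = 4
  edge : ∀ p ∈ (Nat.card G).primeFactors, ∀ q ∈ (Nat.card G).primeFactors, p ≠ q →
    ∃ x y : G, orderOf x = p ∧ orderOf y = q ∧ Commute x y

variable {G : Type u} [Group G] [Finite G]

/-- Every prime divisor has an elementary abelian subgroup of rank two. -/
theorem Hyp.exists_elem (hG : Hyp G) {x : ℕ} (hx : x ∈ (Nat.card G).primeFactors) :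
    ∃ E : Subgroup G, Elem x E := by
  classical
  obtain ⟨hxp, hxd, -⟩ := Nat.mem_primeFactors.1 hx
  haveI := Fact.mk hxp
  obtain ⟨P⟩ : Nonempty (Sylow x G) := inferInstance
  by_contra hcon
  have hR : R1 x (P : Subgroup G) := by
    by_contra h
    obtain ⟨E, -, hE⟩ := FourPrimes.exists_elem hxp h
    exact hcon ⟨E, hE⟩
  have hP : (P : Subgroup G) ≠ ⊥ := P.ne_bot_of_dvd_card hxd
  obtain ⟨z, hz, hzo⟩ := exists_mem_om P.isPGroup' hP
  have hz1 := ne_one_of_orderOf hxp hzo
  -- every element of order `x` is conjugate into `⟨z⟩`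
  have hall : ∀ a : G, orderOf a = x → ∃ g : G, g * a * g⁻¹ ∈ Subgroup.zpowers z := by
    intro a ha
    obtain ⟨Q, hQ⟩ := (IsPGroup.of_card (show Nat.card (Subgroup.zpowers a) = x ^ 1 by
      rw [Nat.card_zpowers, ha, pow_one])).exists_le_sylow
    obtain ⟨g, hg⟩ := MulAction.exists_smul_eq G Q P
    refine ⟨g, ?_⟩
    have hmem : g * a * g⁻¹ ∈ (P : Subgroup G) := by
      rw [← hg, Sylow.coe_subgroup_smul, mem_conj_smul]
      simpa [mul_assoc] using hQ (Subgroup.mem_zpowers a)
    exact hR _ hmem z hz.1 (by rw [conj_pow, pow_eq_of_orderOf ha, mul_one, mul_inv_cancel]) hz.2.2 hz1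
      (hz.2.1 _ hmem).symm
  -- `C(z)` involves all the other primes
  set C := Subgroup.centralizer ({z} : Set G) with hC
  set τ := (Nat.card G).primeFactors.erase x with hτ
  have hτc : τ.card = 3 := by rw [hτ, Finset.card_erase_of_mem hx, hG.four]
  have hτC : ∀ y ∈ τ, y ∣ Nat.card C := by
    intro y hy
    obtain ⟨hyx, hy'⟩ := Finset.mem_erase.1 hy
    obtain ⟨a, b, ha, hb, hab⟩ := hG.edge x hx y hy' hyx.symm
    obtain ⟨g, hg⟩ := hall a ha
    have hzg : z ∈ Subgroup.zpowers (g * a * g⁻¹) := mem_zpowers_gen hxp (pow_eq_of_orderOf hzo) hg (by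
      intro e
      rw [mul_inv_eq_one, mul_eq_left] at e
      exact ne_one_of_orderOf hxp ha e)
    have hc : Commute z (g * b * g⁻¹) :=
      commute_zpowers (hab.map (MulAut.conj g).toMonoidHom) hzg
    have hmem : g * b * g⁻¹ ∈ C := Subgroup.mem_centralizer_singleton_iff.2 hc.eq.symm
    have ho : orderOf (⟨_, hmem⟩ : C) = y := by
      rw [Subgroup.orderOf_mk, show g * b * g⁻¹ = MulAut.conj g b from rfl,
        MulEquiv.orderOf_eq]
      exact hb
    exact ho ▸ orderOf_dvd_natCard _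
  haveI := hG.solv
  have hpr : ∀ y ∈ τ, y.Prime := fun y hy => Nat.prime_of_mem_primeFactors (Finset.mem_erase.1 hy).2
  refine not_solvable_of_three_apart hτc hpr hτC (fun a ha b hb hab g hg => ?_) inferInstance
  have hap := hpr a ha
  have hbp := hpr b hb
  have hdb : b ∣ orderOf g := hg ▸ dvd_mul_left _ _
  have hda : a ∣ orderOf g := hg ▸ dvd_mul_right _ _
  have hgz : Commute (g : G) z := Subgroup.mem_centralizer_singleton_iff.1 g.2
  refine hG.nt x a b hxp hap hbp (Finset.mem_erase.1 ha).1.symm hab (Finset.mem_erase.1 hb).1.symm z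
    ((g : G) ^ (orderOf g / a)) ((g : G) ^ (orderOf g / b)) hzo ?_ ?_ (hgz.symm.pow_right _) (hgz.symm.pow_right _)
    (Commute.pow_pow (Commute.refl _) _ _)
  · rw [← SubmonoidClass.coe_pow, Subgroup.orderOf_coe, orderOf_pow_orderOf_div (orderOf_pos g).ne' hda]
  · rw [← SubmonoidClass.coe_pow, Subgroup.orderOf_coe, orderOf_pow_orderOf_div (orderOf_pos g).ne' hdb]

/-- In a solvable group with cyclic cores the Sylow subgroups of the largest prime are cyclic. -/
theorem sylow_cyclic {H : Type u} [Group H] [Finite H] (hH : Group.IsSolvable H) {x : ℕ} [hx : Fact x.Prime]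
    (hmax : ∀ y : ℕ, y.Prime → y ∣ Nat.card H → y ≤ x)
    (hcyc : ∀ y : ℕ, y.Prime → IsCyclic (pCore y H)) (S : Sylow x H) : IsCyclic (S : Subgroup H) := by
  have hmemC : ∀ c : H, (∀ y : Nat.Primes, ∀ o ∈ pCore (y : ℕ) H, Commute c o) → c ∈ fittingSubgroup H := by
    intro c hc
    refine centralizer_fitting_le hH ?_
    rw [fitting_eq_iSup_pCore, Subgroup.mem_centralizer_iff]
    intro w hw
    have hle : (⨆ y : Nat.Primes, pCore (y : ℕ) H) ≤ Subgroup.centralizer ({c} : Set H) :=
      iSup_le fun y o ho => Subgroup.mem_centralizer_singleton_iff.2 (hc y o ho).symm.eq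
    exact Subgroup.mem_centralizer_singleton_iff.1 (hle hw)
  have hcomm : ∀ g h : H, ⁅g, h⁆ ∈ fittingSubgroup H := by
    intro g h
    refine hmemC _ fun y => ?_
    haveI := pCore_normal (G := H) (y : ℕ)
    obtain ⟨⟨o, ho⟩, hgen⟩ := (hcyc y y.2).exists_generator
    have hgen' : ∀ w ∈ pCore (y : ℕ) H, w ∈ Subgroup.zpowers o := fun w hw => by
      obtain ⟨i, hi⟩ := Subgroup.mem_zpowers_iff.1 (hgen ⟨w, hw⟩)
      exact Subgroup.mem_zpowers_iff.2 ⟨i, congrArg Subtype.val hi⟩
    intro w hw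
    obtain ⟨i, rfl⟩ := Subgroup.mem_zpowers_iff.1 (hgen' w hw)
    refine Commute.zpow_right ?_ i
    obtain ⟨a, ha⟩ := Subgroup.mem_zpowers_iff.1 (hgen' _ (Subgroup.Normal.conj_mem inferInstance o ho g))
    obtain ⟨b, hb⟩ := Subgroup.mem_zpowers_iff.1 (hgen' _ (Subgroup.Normal.conj_mem inferInstance o ho h))
    have h1 : (g * h) * o * (g * h)⁻¹ = o ^ (a * b) := by
      rw [show (g * h) * o * (g * h)⁻¹ = g * (h * o * h⁻¹) * g⁻¹ by group, ← hb, ← conj_zpow, ← ha,
        ← zpow_mul]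
    have h2 : (h * g) * o * (h * g)⁻¹ = o ^ (a * b) := by
      rw [show (h * g) * o * (h * g)⁻¹ = h * (g * o * g⁻¹) * h⁻¹ by group, ← ha, ← conj_zpow, ← hb,
        ← zpow_mul, mul_comm]
    have h3 : (g * h) * o = (g * h) * ((h * g)⁻¹ * ((g * h) * o * (g * h)⁻¹) * (h * g)) := by
      rw [h1, ← h2]; group
    refine show ⁅g, h⁆ * o = o * ⁅g, h⁆ from ?_
    have h4 : (g * h) * o * (g * h)⁻¹ = (h * g) * o * (h * g)⁻¹ := h1.trans h2.symm
    rw [commutatorElement_def]
    calc g * h * g⁻¹ * h⁻¹ * o = (g * h) * ((h * g)⁻¹ * o * (h * g)) * (h * g)⁻¹ := by group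
      _ = o * (g * h * g⁻¹ * h⁻¹) := by
        have h5 : (g * h) * ((h * g)⁻¹ * o * (h * g)) * (g * h)⁻¹ = o := by
          set u := (h * g)⁻¹ * o * (h * g) with hu
          obtain ⟨c, hc⟩ := Subgroup.mem_zpowers_iff.1 (hgen' u
            (by simpa [hu] using Subgroup.Normal.conj_mem inferInstance o ho (h * g)⁻¹))
          rw [← hc, ← conj_zpow, h4, conj_zpow, hc, hu]; group
        calc (g * h) * ((h * g)⁻¹ * o * (h * g)) * (h * g)⁻¹
            = ((g * h) * ((h * g)⁻¹ * o * (h * g)) * (g * h)⁻¹) * ((g * h) * (h * g)⁻¹) := by group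
          _ = _ := by rw [h5]; group
  have hSC : ∀ y : Nat.Primes, (y : ℕ) ≠ x → ∀ o ∈ pCore (y : ℕ) H, ∀ s ∈ (S : Subgroup H), Commute s o := by
    intro y hyx o ho s hs
    haveI := pCore_normal (G := H) (y : ℕ)
    haveI := hcyc y y.2
    haveI := Fact.mk y.2
    by_cases hbot : pCore (y : ℕ) H = ⊥
    · rw [hbot, Subgroup.mem_bot] at ho
      rw [ho]; exact Commute.one_right s
    obtain ⟨n, hn⟩ := IsPGroup.iff_card.1 (pCore_isPGroup (G := H) (y : ℕ))
    have hn0 : n ≠ 0 := fun h0 => hbot (Subgroup.card_eq_one.1 (by rw [hn, h0, pow_zero]))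
    have hyd : (y : ℕ) ∣ Nat.card H :=
      ((dvd_pow_self _ hn0).trans (dvd_of_eq hn.symm)).trans (Subgroup.card_subgroup_dvd_card _)
    have hlt : (y : ℕ) < x := lt_of_le_of_ne (hmax y y.2 hyd) hyx
    let φ : (S : Subgroup H) →* MulAut (pCore (y : ℕ) H) := MulAut.conjNormal.comp (S : Subgroup H).subtype
    have hco : ¬ x ∣ Nat.card (MulAut (pCore (y : ℕ) H)) := by
      rw [IsCyclic.card_mulAut, hn, Nat.totient_prime_pow y.2 (Nat.pos_of_ne_zero hn0)]
      intro hd
      rcases hx.out.dvd_mul.1 hd with h | h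
      · exact absurd (Nat.le_of_dvd y.2.pos (hx.out.dvd_of_dvd_pow h)) (not_le.2 hlt)
      · have := Nat.le_of_dvd (Nat.sub_pos_of_lt y.2.one_lt) h
        omega
    have h1 : φ ⟨s, hs⟩ = 1 := by
      obtain ⟨k, hk⟩ := IsPGroup.iff_orderOf.1 S.isPGroup' ⟨s, hs⟩
      have hd1 : orderOf (φ ⟨s, hs⟩) ∣ x ^ k := hk ▸ orderOf_map_dvd φ _
      exact orderOf_eq_one_iff.1 (Nat.Coprime.eq_one_of_dvd
        (((hx.out.coprime_iff_not_dvd.2 fun h => hco (h.trans (orderOf_dvd_natCard _))).pow_left k).symm) hd1)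
    have h2 := congrArg Subtype.val (DFunLike.congr_fun h1 ⟨o, ho⟩)
    simp only [φ, MonoidHom.comp_apply, Subgroup.coe_subtype, MulAut.conjNormal_apply, MulAut.one_apply] at h2
    exact mul_inv_eq_iff_eq_mul.1 h2
  have hFS : fittingSubgroup H ≤ Subgroup.normalizer ((S : Subgroup H) : Set H) := by
    rw [fitting_eq_iSup_pCore]
    refine iSup_le fun y => ?_
    by_cases hyx : (y : ℕ) = x
    · rw [hyx]; exact (Fusion.pCore_le_sylow S).trans Subgroup.le_normalizer
    · exact fun o ho => Subgroup.centralizer_le_normalizer _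
        (Subgroup.mem_centralizer_iff.2 fun s hs => (hSC y hyx o ho s hs).eq)
  haveI hSn : (S : Subgroup H).Normal := by
    refine ⟨fun s hs g => ?_⟩
    set S' := MulAut.conj g • (S : Subgroup H)
    have hle : S' ≤ Subgroup.normalizer ((S : Subgroup H) : Set H) := by
      intro t ht
      rw [mem_conj_smul] at ht
      have h := mul_mem (hFS (hcomm g (g⁻¹ * t * g))) (Subgroup.le_normalizer ht)
      rwa [commutatorElement_def, show g * (g⁻¹ * t * g) * g⁻¹ * (g⁻¹ * t * g)⁻¹ * (g⁻¹ * t * g) = t by group]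
        at h
    have hS' : IsPGroup x S' := by
      obtain ⟨k, hk⟩ := IsPGroup.iff_card.1 S.isPGroup'
      exact IsPGroup.of_card (show Nat.card S' = x ^ k by rw [card_conj_smul]; exact hk)
    have h := S.is_maximal' (S.isPGroup'.to_sup_of_normal_left' hS' hle) le_sup_left
    have h2 : g * s * g⁻¹ ∈ S' := by rw [mem_conj_smul]; simpa [mul_assoc] using hs
    exact h.le (Subgroup.mem_sup_right h2)
  have hle : (S : Subgroup H) ≤ pCore x H := normal_le_pCore S.isPGroup'
  haveI := hcyc x hx.out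
  exact isCyclic_of_injective (Subgroup.inclusion hle) (Subgroup.inclusion_injective hle)

end Cfsg.Agent.Solv.FourPrimes
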